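import Groth.Agent.ProjUniv.Basis
import Groth.Agent.QCohLib.StalkRestrict

/-!
# A basis pulls back to a generator
-/

set_option autoImplicit false
set_option synthInstance.maxHeartbeats 400000
universe u
open CategoryTheory CategoryTheory.Limits AlgebraicGeometry Opposite TopologicalSpace

namespace Groth.Agent.ProjUniv

open Groth.Agent.InvBasic

variable {X Y : Scheme.{u}}

/-- The inverse image of a section which is a basis on `U` generates every stalk over `U`. -/
theorem gen_pullSec (r : X ⟶ Y) (M : Y.Modules) (s : ProjUP.Γm M) {U : Y.Opens}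
    (hb : IsBasis M (gres M s U)) {x : X} (hx : x ∈ r ⁻¹ᵁ U) :
    Gen ((Scheme.Modules.pullback r).obj M) (ProjUP.pullSec r M s) x := by
  let P := (Scheme.Modules.pullback r).obj M
  let q := ProjTwist.globalHom P (ProjUP.pullSec r M s)
  let π : P ⟶ cokernel q := cokernel.π q
  let V : X.Opens := r ⁻¹ᵁ U
  let h : P ⟶ (Scheme.Modules.pushforward V.ι).obj ((cokernel q).restrict V.ι) :=
    π ≫ (Scheme.Modules.restrictAdjunction V.ι).unit.app (cokernel q)
  have hps : π.app ⊤ (ProjUP.pullSec r M s) = 0 := by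
    have e := congrArg (fun f : Coh.structureModule X ⟶ cokernel q => f.app ⊤ (1 : Γ(X, ⊤))) (cokernel.condition q)
    change π.app ⊤ (q.app ⊤ (1 : Γ(X, ⊤))) = 0 at e
    rwa [ProjTwist.globalHom_app, one_smul, QCohLib.map_self] at e
  have hz : ∀ (W : Y.Opens), W ≤ U → ∀ t : Γ(M, W),
      π.app (r ⁻¹ᵁ W) (((Scheme.Modules.pullbackPushforwardAdjunction r).unit.app M).app W t) = 0 := by
    intro W hW t
    obtain ⟨c, rfl⟩ := (hb W hW).2 t
    dsimp only
    rw [Scheme.Modules.Hom.app_smul]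
    refine (Scheme.Modules.Hom.app_smul π (r.app W c : Γ(X, r ⁻¹ᵁ W)) _).trans ?_
    have e : M.presheaf.map (homOfLE hW).op (gres M s U) = gres M s W := res_res M le_top hW s
    have e2 : ((Scheme.Modules.pullbackPushforwardAdjunction r).unit.app M).app W (gres M s W) =
        res P (le_top : r ⁻¹ᵁ W ≤ ⊤) (ProjUP.pullSec r M s) :=
      QCohLib.app_map ((Scheme.Modules.pullbackPushforwardAdjunction r).unit.app M) (le_top : W ≤ ⊤) s
    rw [e, e2]
    refine (congrArg _ (QCohLib.app_map π (le_top : r ⁻¹ᵁ W ≤ ⊤) (ProjUP.pullSec r M s))).trans ?_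
    rw [hps, map_zero, smul_zero]
  have hh : h = 0 := by
    apply ((Scheme.Modules.pullbackPushforwardAdjunction r).homEquiv M _).injective
    rw [Adjunction.homEquiv_unit, Adjunction.homEquiv_unit]
    refine Scheme.Modules.hom_ext _ _ fun W => ?_
    ext t
    show h.app (r ⁻¹ᵁ W) (((Scheme.Modules.pullbackPushforwardAdjunction r).unit.app M).app W t) = 0
    let z := ((Scheme.Modules.pullbackPushforwardAdjunction r).unit.app M).app W t
    have hle : V.ι ''ᵁ V.ι ⁻¹ᵁ (r ⁻¹ᵁ W) ≤ r ⁻¹ᵁ (W ⊓ U) := by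
      rw [Scheme.Hom.image_preimage_eq_opensRange_inf, Scheme.Opens.opensRange_ι]
      exact fun y hy => ⟨hy.2, hy.1⟩
    show res (cokernel q) (V.ι.image_preimage_le (r ⁻¹ᵁ W)) (π.app (r ⁻¹ᵁ W) z) = 0
    have hle2 : r ⁻¹ᵁ (W ⊓ U) ≤ r ⁻¹ᵁ W := fun y hy => hy.1
    have e3 : res P hle2 (show Γ(P, r ⁻¹ᵁ W) from z) =
        ((Scheme.Modules.pullbackPushforwardAdjunction r).unit.app M).app (W ⊓ U)
          (res M (inf_le_left : W ⊓ U ≤ W) t) :=
      (QCohLib.app_map ((Scheme.Modules.pullbackPushforwardAdjunction r).unit.app M)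
        (inf_le_left : W ⊓ U ≤ W) t).symm
    have e4 : res (cokernel q) hle2 (π.app (r ⁻¹ᵁ W) z) = 0 := by
      refine (QCohLib.app_map π hle2 (show Γ(P, r ⁻¹ᵁ W) from z)).symm.trans ?_
      exact (congrArg (π.app _) e3).trans (hz _ inf_le_right _)
    rw [← res_res (cokernel q) hle2 hle, e4]
    exact map_zero _
  intro y
  have hy : QCohLib.stalkHom π x y = 0 := by
    obtain ⟨W, hxW, t, rfl⟩ := TopCat.Presheaf.exists_germ_eq _ y
    have h0 : res (cokernel q) (V.ι.image_preimage_le W) (π.app W t) = 0 :=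
      congrArg (fun f : P ⟶ (Scheme.Modules.pushforward V.ι).obj ((cokernel q).restrict V.ι) => f.app W t) hh
    have hxW' : x ∈ V.ι ''ᵁ V.ι ⁻¹ᵁ W := by
      rw [Scheme.Hom.image_preimage_eq_opensRange_inf, Scheme.Opens.opensRange_ι]
      exact ⟨hx, hxW⟩
    rw [QCohLib.stalkHom_germ, ← TopCat.Presheaf.germ_res_apply (cokernel q).presheaf
      (homOfLE (V.ι.image_preimage_le W)) x hxW']
    change (cokernel q).presheaf.germ _ x hxW' (res (cokernel q) (V.ι.image_preimage_le W) (π.app W t)) = 0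
    rw [h0, map_zero]
  obtain ⟨z, rfl⟩ := (QCohLib.stalk_cokernel_exact q x y).mp hy
  obtain ⟨W, hxW, c, rfl⟩ := TopCat.Presheaf.exists_germ_eq _ z
  refine ⟨X.presheaf.germ W x hxW (show Γ(X, W) from c), ?_⟩
  rw [QCohLib.stalkHom_germ]
  show _ = P.presheaf.germ W x hxW ((ProjTwist.globalHom P (ProjUP.pullSec r M s)).app W (show Γ(X, W) from c))
  rw [ProjTwist.globalHom_app, InvBasic.germ_smul, TopCat.Presheaf.germ_res_apply]

end Groth.Agent.ProjUniv
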