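import Groth.Agent.ProjUniv.Basis
import Groth.Agent.ProjPoint.Basic

/-!
# The standard charts of projective space and `O(1)`
-/

set_option autoImplicit false
set_option synthInstance.maxHeartbeats 400000
set_option maxHeartbeats 1600000
universe u
open CategoryTheory CategoryTheory.Limits AlgebraicGeometry Opposite TopologicalSpace

namespace Groth.Agent.ProjUniv

open Groth.Agent.InvBasic

section general

variable {X Y : Scheme.{u}}

/-- A morphism into `Spec` of an affine open determines the ring map. -/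
theorem toSpecΓ_cancel {W : X.Opens} {A : CommRingCat.{u}} {a b : A ⟶ Γ(X, W)}
    (h : W.toSpecΓ ≫ Spec.map a = W.toSpecΓ ≫ Spec.map b) : a = b := by
  have key : ∀ c : A ⟶ Γ(X, W),
      (Scheme.ΓSpecIso A).inv ≫ (W.toSpecΓ ≫ Spec.map c).appTop ≫ W.topIso.hom = c := fun c => by
    rw [Scheme.Hom.comp_appTop, Scheme.Opens.toSpecΓ_appTop, Category.assoc, Category.assoc, Iso.inv_hom_id,
      Category.comp_id, Scheme.ΓSpecIso_naturality, Iso.inv_hom_id_assoc]
  rw [← key a, h, key b]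

/-- The structure map on sections over `W`. -/
noncomputable def sigma {A : Type u} [CommRing A] (q : X ⟶ Spec (CommRingCat.of A)) (W : X.Opens) :
    A →+* Γ(X, W) :=
  (X.presheaf.map (homOfLE (le_top : W ≤ ⊤)).op).hom.comp (ProjUP.toGlobal q)

theorem resR_sigma {A : Type u} [CommRing A] (q : X ⟶ Spec (CommRingCat.of A)) {W V : X.Opens} (h : V ≤ W) :
    (X.presheaf.map (homOfLE h).op).hom.comp (sigma q W) = sigma q V :=
  RingHom.ext fun r => resR_resR (le_top : W ≤ ⊤) h _

theorem ι_comp_eq_sigma {A : Type u} [CommRing A] (q : X ⟶ Spec (CommRingCat.of A)) (W : X.Opens) :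
    W.ι ≫ q = W.toSpecΓ ≫ Spec.map (CommRingCat.ofHom (sigma q W)) := by
  have hs : CommRingCat.ofHom (sigma q W) =
      ((Scheme.ΓSpecIso (CommRingCat.of A)).inv ≫ q.appTop) ≫ X.presheaf.map (homOfLE (le_top : W ≤ ⊤)).op := rfl
  rw [hs, Spec.map_comp, Scheme.Opens.toSpecΓ_SpecMap_presheaf_map_top_assoc, Spec.map_comp,
    ← Scheme.toSpecΓ_naturality_assoc, ← SpecMap_ΓSpecIso_hom, ← Spec.map_comp, Iso.inv_hom_id, Spec.map_id,
    Category.comp_id]

/-- Pullback of sections is natural in restriction. -/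
theorem gres_pullSec (r : X ⟶ Y) (M : Y.Modules) (s : ProjUP.Γm M) (U : Y.Opens) :
    gres ((Scheme.Modules.pullback r).obj M) (ProjUP.pullSec r M s) (r ⁻¹ᵁ U) =
      ((Scheme.Modules.pullbackPushforwardAdjunction r).unit.app M).app U (gres M s U) :=
  (QCohLib.app_map ((Scheme.Modules.pullbackPushforwardAdjunction r).unit.app M) (le_top : U ≤ ⊤) s).symm

/-- Relations between sections pull back. -/
theorem gres_pullSec_smul (r : X ⟶ Y) (M : Y.Modules) {s t : ProjUP.Γm M} {U : Y.Opens} {c : Γ(Y, U)}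
    (h : gres M s U = c • gres M t U) :
    gres ((Scheme.Modules.pullback r).obj M) (ProjUP.pullSec r M s) (r ⁻¹ᵁ U) =
      (r.app U c : Γ(X, r ⁻¹ᵁ U)) •
        gres ((Scheme.Modules.pullback r).obj M) (ProjUP.pullSec r M t) (r ⁻¹ᵁ U) := by
  rw [gres_pullSec, gres_pullSec, h, Scheme.Modules.Hom.app_smul]
  rfl

/-- Isomorphisms preserve the property of generating a stalk. -/
theorem gen_map {L L' : X.Modules} (f : L ⟶ L') [IsIso f] {s : Γ(L, ⊤)} {x : X} (h : Gen L s x) :
    Gen L' (f.app ⊤ s) x := fun y => by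
  obtain ⟨z, rfl⟩ := (QCohLib.epi_iff_stalk_surjective f).mp inferInstance x y
  obtain ⟨c, rfl⟩ := h z
  refine ⟨c, ?_⟩
  rw [← QCohLib.stalkLinearMap_apply, LinearMap.map_smul, QCohLib.stalkLinearMap_apply]
  exact congrArg (c • ·) (QCohLib.stalkHom_germ f ⊤ x trivial s).symm

theorem gres_app {L L' : X.Modules} (f : L ⟶ L') (s : Γ(L, ⊤)) (W : X.Opens) :
    f.app W (gres L s W) = gres L' (f.app ⊤ s) W := QCohLib.app_map f (le_top : W ≤ ⊤) s

/-- A relation over an open neighbourhood gives one on the stalk. -/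
theorem germ_rel (L : X.Modules) {s t : Γ(L, ⊤)} {U : X.Opens} {x : X} (hx : x ∈ U) {c : Γ(X, U)}
    (h : gres L s U = c • gres L t U) :
    L.presheaf.germ ⊤ x trivial s = X.presheaf.germ U x hx c • L.presheaf.germ ⊤ x trivial t := by
  have e := (congrArg (L.presheaf.germ U x hx) h).trans (InvBasic.germ_smul L U x hx c (gres L t U))
  have e1 : ∀ w : Γ(L, ⊤), L.presheaf.germ U x hx (gres L w U) = L.presheaf.germ ⊤ x trivial w := fun w =>
    TopCat.Presheaf.germ_res_apply L.presheaf (homOfLE (le_top : U ≤ ⊤)) x hx w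
  rwa [e1, e1] at e

end general

variable {n : ℕ} {R : Type u} [CommRing R]

local notation "𝒬" => CohB1.polyGrading n R

variable (n R) in
/-- `O(1)`. -/
noncomputable abbrev O1 : (Proj (CohB1.polyGrading n R)).Modules := Twist.twist (CohB1.polyGrading n R) (1 : ℤ)

variable (n R) in
/-- The standard open `D₊(X i)`. -/
noncomputable abbrev D (i : Fin (n + 1)) : (Proj (CohB1.polyGrading n R)).Opens :=
  Proj.basicOpen (CohB1.polyGrading n R) (MvPolynomial.X i)

variable (n R) in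
/-- The coordinate section. -/
noncomputable abbrev co (i : Fin (n + 1)) : ProjUP.Γm (O1 n R) := ProjUP.coord n R i

variable (n R) in
/-- The coordinate `X k / X i` as a function on `D₊(X i)`. -/
noncomputable abbrev coFun (i k : Fin (n + 1)) : Γ(Proj (CohB1.polyGrading n R), D n R i) :=
  Proj.awayToSection (CohB1.polyGrading n R) (MvPolynomial.X i) (ProjPoint.coord i k)

theorem isBasis_co (i : Fin (n + 1)) : IsBasis (O1 n R) (gres (O1 n R) (co n R i) (D n R i)) := by
  intro W hW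
  exact ProjTwist.bijective_smul_fracSect (𝒜 := 𝒬) (W := W) (i := 1) (j := 0)
    ⟨MvPolynomial.X i, ProjPoint.X_mem i⟩ ⟨1, SetLike.GradedOne.one_mem⟩ (fun x => hW x.2)
    (fun x => ProjTwist.notMem_one 𝒬 x.1) (by simp)

theorem co_rel (i k : Fin (n + 1)) :
    gres (O1 n R) (co n R k) (D n R i) = coFun n R i k • gres (O1 n R) (co n R i) (D n R i) := by
  refine ProjTwist.sectN_ext fun y => Eq.symm ?_
  refine (ProjTwist.smulT_val _ _ y).trans ?_
  change ((((ProjectiveSpectrum.Proj.awayToSection 𝒬 (MvPolynomial.X i)).1 (ProjPoint.coord i k)).1 y)).val *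
    Localization.mk (MvPolynomial.X i) ⟨1, _⟩ = Localization.mk (MvPolynomial.X k) ⟨1, _⟩
  refine (congrArg (· * _) (ProjectiveSpectrum.Proj.awayToSection_apply (𝒜 := 𝒬) (MvPolynomial.X i)
    (ProjPoint.coord i k) y)).trans ?_
  rw [ProjPoint.coord, HomogeneousLocalization.Away.val_mk,
    Localization.mk_eq_mk', IsLocalization.map_mk']
  erw [← Localization.mk_eq_mk', Localization.mk_mul]
  rw [Localization.mk_eq_mk_iff, Localization.r_iff_exists]
  exact ⟨1, by simp; ring⟩

theorem exists_mem_D (y : Proj (CohB1.polyGrading n R)) : ∃ i, y ∈ D n R i :=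
  Opens.mem_iSup.mp ((ProjPoint.iSup_basicOpen_X (n := n) (R := R)).ge (Opens.mem_top y))

theorem isInvertible_O1 : PicF.IsInvertible (O1 n R) := by
  refine ProjTwist.isInvertible_twist ?_
  have := ProjTwist.hasUnit_of_cover (𝒜 := 𝒬) (d := 1) (fun x => by
    obtain ⟨i, hi⟩ := exists_mem_D (n := n) (R := R) x
    exact ⟨_, ProjPoint.X_mem i, hi⟩) 1
  simpa using this

theorem generatedBy_co : ProjUP.GeneratedBy (O1 n R) (co n R) :=
  ProjTwist.generatedBy_of_locSpan _ _ (ProjTwist.locSpan_globalOf_of_cover 𝒬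
    (fun i => (⟨MvPolynomial.X i, ProjPoint.X_mem i⟩ : 𝒬 1)) fun x => exists_mem_D (n := n) (R := R) x)

/-! ### Morphisms to projective space -/

variable {X : Scheme.{u}}

section charts

variable (r : X ⟶ Proj (CohB1.polyGrading n R))

/-- `r^*O(1)`. -/
noncomputable abbrev P1 : X.Modules := (Scheme.Modules.pullback r).obj (O1 n R)

/-- `r^* T i`. -/
noncomputable abbrev pco (i : Fin (n + 1)) : ProjUP.Γm (P1 r) := ProjUP.pullSec r (O1 n R) (co n R i)

/-- The ring map of the `i`-th chart. -/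
noncomputable def chartMap {i : Fin (n + 1)} {W : X.Opens} (h : W ≤ r ⁻¹ᵁ D n R i) :
    HomogeneousLocalization.Away 𝒬 (MvPolynomial.X i) →+* Γ(X, W) :=
  (r.appLE (D n R i) W h).hom.comp (Proj.awayToSection 𝒬 (MvPolynomial.X i)).hom

theorem ι_comp_chart {i : Fin (n + 1)} {W : X.Opens} (h : W ≤ r ⁻¹ᵁ D n R i) :
    W.ι ≫ r = W.toSpecΓ ≫ Spec.map (CommRingCat.ofHom (chartMap r h)) ≫
      Proj.awayι 𝒬 (MvPolynomial.X i) (ProjPoint.X_mem i) one_pos := by
  have e : CommRingCat.ofHom (chartMap r h) =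
      Proj.awayToSection 𝒬 (MvPolynomial.X i) ≫ r.appLE (D n R i) W h := rfl
  have hD : (D n R i).ι = ((D n R i).toSpecΓ ≫ Spec.map (Proj.awayToSection 𝒬 (MvPolynomial.X i))) ≫
      Proj.awayι 𝒬 (MvPolynomial.X i) (ProjPoint.X_mem i) one_pos := by
    change _ = Proj.basicOpenToSpec 𝒬 (MvPolynomial.X i) ≫ _
    rw [← Proj.basicOpenIsoSpec_hom 𝒬 _ (ProjPoint.X_mem i) one_pos, ← Proj.basicOpenIsoSpec_inv_ι,
      Iso.hom_inv_id_assoc]
  rw [← Scheme.Hom.resLE_comp_ι r h, hD, e, Spec.map_comp]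
  simp only [Category.assoc]
  rw [Scheme.Opens.toSpecΓ_SpecMap_appLE_assoc]

theorem gres_pco {i : Fin (n + 1)} {W : X.Opens} (h : W ≤ r ⁻¹ᵁ D n R i) (k : Fin (n + 1)) :
    gres (P1 r) (pco r k) W = chartMap r h (ProjPoint.coord i k) • gres (P1 r) (pco r i) W := by
  have e := congrArg (res (P1 r) h) (gres_pullSec_smul r (O1 n R) (co_rel i k))
  simp only [res_smul, gres, res_res] at e
  exact e

theorem isInvertible_P1 : PicF.IsInvertible (P1 r) := isInvertible_pullback r isInvertible_O1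

theorem generatedBy_pco : ProjUP.GeneratedBy (P1 r) (pco r) := generatedBy_pullSec r generatedBy_co

theorem gen_of_rel {L : X.Modules} {s t : Γ(L, ⊤)} {U : X.Opens} {x : X} (hx : x ∈ U) {c : Γ(X, U)}
    (h : gres L s U = c • gres L t U) (hs : Gen L s x) : Gen L t x := fun y => by
  obtain ⟨d, rfl⟩ := hs y
  exact ⟨d * X.presheaf.germ U x hx c, by rw [mul_smul, ← germ_rel L hx h]⟩

theorem isUnit_of_rel {L : X.Modules} (hL : PicF.IsInvertible L) {s t : Γ(L, ⊤)} {U : X.Opens} {x : X}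
    (hx : x ∈ U) {c : Γ(X, U)} (h : gres L s U = c • gres L t U) (hs : Gen L s x) :
    IsUnit (X.presheaf.germ U x hx c) := by
  obtain ⟨V, hxV, hV⟩ := exists_nhd_of_gen hL (gen_of_rel hx h hs)
  obtain ⟨d, hd⟩ := hs (L.presheaf.germ ⊤ x trivial t)
  refine isUnit_iff_exists_inv'.mpr ⟨d, (hV.stalk_bijective hxV).1 ?_⟩
  have e1 : L.presheaf.germ V x hxV (gres L t V) = L.presheaf.germ ⊤ x trivial t :=
    TopCat.Presheaf.germ_res_apply L.presheaf (homOfLE (le_top : V ≤ ⊤)) x hxV t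
  show (d * X.presheaf.germ U x hx c) • L.presheaf.germ V x hxV (gres L t V) =
    (1 : X.presheaf.stalk x) • L.presheaf.germ V x hxV (gres L t V)
  rw [e1, one_smul, mul_smul, ← germ_rel L hx h, hd]

theorem mem_D_of_isUnit {i j : Fin (n + 1)} {x : X} {W : X.Opens} (hW : W ≤ r ⁻¹ᵁ D n R j) (hx : x ∈ W)
    (hu : IsUnit (X.presheaf.germ W x hx (chartMap r hW (ProjPoint.coord j i)))) : x ∈ r ⁻¹ᵁ D n R i := by
  have hmem : W.toSpecΓ ⟨x, hx⟩ ∈ PrimeSpectrum.basicOpen (chartMap r hW (ProjPoint.coord j i)) := by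
    show (⟨x, hx⟩ : W) ∈ W.toSpecΓ ⁻¹ᵁ PrimeSpectrum.basicOpen (chartMap r hW (ProjPoint.coord j i))
    rw [Scheme.Opens.toSpecΓ_preimage_basicOpen]
    exact (X.mem_basicOpen _ x hx).mpr hu
  have hr : r x = Proj.awayι 𝒬 (MvPolynomial.X j) (ProjPoint.X_mem j) one_pos
      (Spec.map (CommRingCat.ofHom (chartMap r hW)) (W.toSpecΓ ⟨x, hx⟩)) :=
    congrArg (fun f : (W : Scheme.{u}) ⟶ Proj 𝒬 => f (⟨x, hx⟩ : W)) (ι_comp_chart r hW)
  show r x ∈ D n R i
  rw [hr]
  show _ ∈ (Proj.awayι 𝒬 (MvPolynomial.X j) (ProjPoint.X_mem j) one_pos) ⁻¹ᵁ D n R i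
  rw [ProjPoint.awayι_preimage_basicOpen_X]
  exact hmem

theorem gen_pco_iff (i : Fin (n + 1)) (x : X) : Gen (P1 r) (pco r i) x ↔ x ∈ r ⁻¹ᵁ D n R i := by
  constructor
  · intro hi
    obtain ⟨j, hj⟩ := exists_mem_D (r x)
    exact mem_D_of_isUnit r (le_rfl : r ⁻¹ᵁ D n R j ≤ _) hj
      (isUnit_of_rel (isInvertible_P1 r) hj (gres_pco r le_rfl i) hi)
  · intro hx
    obtain ⟨j, hj⟩ := exists_gen (isInvertible_P1 r) (generatedBy_pco r) x
    exact gen_of_rel hx (gres_pco r le_rfl j) hj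

theorem isBasis_pco {i : Fin (n + 1)} {W : X.Opens} (h : W ≤ r ⁻¹ᵁ D n R i) :
    IsBasis (P1 r) (gres (P1 r) (pco r i) W) := by
  have hle : W ≤ genOpen (isInvertible_P1 r) (pco r i) := fun x hx => (gen_pco_iff r i x).mpr (h hx)
  have := (isBasis_genOpen (isInvertible_P1 r) (pco r i)).restrict hle
  rwa [show (P1 r).presheaf.map (homOfLE hle).op (gres (P1 r) (pco r i) (genOpen (isInvertible_P1 r) (pco r i))) =
    gres (P1 r) (pco r i) W from res_res _ le_top hle _] at this

end charts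

/-- A homogeneous coordinate vector evaluates the base ring by its structure map. -/
theorem evalAway_chartBase {T : Type u} [CommRing T] (φ : R →+* T) (v : Fin (n + 1) → T) (i : Fin (n + 1))
    (hu : IsUnit (MvPolynomial.eval₂Hom φ v (MvPolynomial.X i))) :
    (ProjPoint.evalAway φ v (MvPolynomial.X i) hu).comp (ProjPoint.chartBase i) = φ := by
  ext r
  have hbase : (ProjPoint.chartBase (n := n) (R := R) i r).val =
      algebraMap (MvPolynomial (Fin (n + 1)) R)
        (Localization.Away (MvPolynomial.X i : MvPolynomial (Fin (n + 1)) R)) (MvPolynomial.C r) := by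
    change (HomogeneousLocalization.mk _ : HomogeneousLocalization.Away 𝒬 _).val = _
    rw [HomogeneousLocalization.val_mk]
    exact Localization.mk_one_eq_algebraMap _
  rw [RingHom.comp_apply, ProjPoint.evalAway, RingHom.comp_apply, HomogeneousLocalization.algebraMap_apply, hbase,
    IsLocalization.Away.lift_eq, MvPolynomial.eval₂Hom_C]

theorem evalAway_coord {T : Type u} [CommRing T] (φ : R →+* T) (v : Fin (n + 1) → T) (i k : Fin (n + 1))
    (hu : IsUnit (MvPolynomial.eval₂Hom φ v (MvPolynomial.X i))) (hi : v i = 1) :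
    ProjPoint.evalAway φ v (MvPolynomial.X i) hu (ProjPoint.coord i k) = v k := by
  have := ProjPoint.evalAway_mk φ v hu (ProjPoint.X_mem i) 1 (MvPolynomial.X k) (by simpa using ProjPoint.X_mem k)
  simpa [ProjPoint.coord, MvPolynomial.eval₂Hom_X', hi] using this

theorem point_toSpec {T : Type u} [CommRing T] (φ : R →+* T) (v : Fin (n + 1) → T) (i : Fin (n + 1))
    (hi : IsUnit (v i)) :
    ProjPoint.point φ v i hi ≫ CohB1.ProjSpace.toSpec n R = Spec.map (CommRingCat.ofHom φ) := by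
  rw [ProjPoint.point]
  change (Spec.map (CommRingCat.ofHom (ProjPoint.evalAway φ v (MvPolynomial.X i) (ProjPoint.isUnit_eval_X hi))) ≫
    Proj.awayι 𝒬 (MvPolynomial.X i) (ProjPoint.X_mem i) one_pos) ≫ Proj.toSpecZero 𝒬 ≫
      Spec.map (CommRingCat.ofHom (algebraMap R (𝒬 0))) = _
  rw [Category.assoc, Proj.awayι_toSpecZero_assoc]
  rw [← Spec.map_comp, ← Spec.map_comp, ← CommRingCat.ofHom_comp, ← CommRingCat.ofHom_comp]
  exact congrArg (fun g => Spec.map (CommRingCat.ofHom g))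
    ((RingHom.comp_assoc _ _ _).trans (evalAway_chartBase φ v i (ProjPoint.isUnit_eval_X hi)))

/-- The base ring enters a chart through the structure morphism. -/
theorem chartMap_chartBase (r : X ⟶ Proj (CohB1.polyGrading n R)) {q : X ⟶ Spec (CommRingCat.of R)}
    (hq : r ≫ CohB1.ProjSpace.toSpec n R = q) {i : Fin (n + 1)} {W : X.Opens} (h : W ≤ r ⁻¹ᵁ D n R i) :
    (chartMap r h).comp (ProjPoint.chartBase i) = sigma q W := by
  have e : W.toSpecΓ ≫ Spec.map (CommRingCat.ofHom ((chartMap r h).comp (ProjPoint.chartBase i))) =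
      W.toSpecΓ ≫ Spec.map (CommRingCat.ofHom (sigma q W)) := by
    rw [← ι_comp_eq_sigma]
    refine Eq.trans ?_ (congrArg (W.ι ≫ ·) hq)
    refine Eq.trans ?_ (Category.assoc W.ι r (CohB1.ProjSpace.toSpec n R : Proj 𝒬 ⟶ _))
    rw [ι_comp_chart r h, ProjPoint.SpecMap_awayι_eq_point]
    exact ((Category.assoc _ _ _).trans (congrArg (W.toSpecΓ ≫ ·) (point_toSpec _ _ _ _))).symm
  exact congrArg CommRingCat.Hom.hom (toSpecΓ_cancel e)

end Groth.Agent.ProjUniv
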