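import Mathlib.AlgebraicGeometry.Gluing
import Mathlib.AlgebraicGeometry.Restrict

/-!
# Gluing morphisms from an open cover by opens
-/

set_option autoImplicit false
universe v u
open CategoryTheory CategoryTheory.Limits AlgebraicGeometry TopologicalSpace

namespace Groth.Agent.ProjUniv

variable {X Y : Scheme.{u}} {ι : Type v}

theorem exists_glue (W : ι → X.Opens) (hW : ∀ x, ∃ i, x ∈ W i) (f : ∀ i, (W i : Scheme.{u}) ⟶ Y)
    (h : ∀ i j, X.homOfLE (inf_le_left : W i ⊓ W j ≤ W i) ≫ f i =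
      X.homOfLE (inf_le_right : W i ⊓ W j ≤ W j) ≫ f j) :
    ∃ g : X ⟶ Y, ∀ i, (W i).ι ≫ g = f i := by
  let 𝒰 : Scheme.OpenCover.{v} X := Scheme.openCoverOfIsOpenCover X W (by
    rw [IsOpenCover, ← top_le_iff]
    exact fun x _ => Opens.mem_iSup.mpr (hW x))
  refine ⟨𝒰.glueMorphisms f fun i j => ?_, fun i => 𝒰.ι_glueMorphisms f _ i⟩
  change pullback.fst (W i).ι (W j).ι ≫ f i = pullback.snd (W i).ι (W j).ι ≫ f j
  rw [← (isPullback_opens_inf (W i) (W j)).isoPullback_inv_fst,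
    ← (isPullback_opens_inf (W i) (W j)).isoPullback_inv_snd, Category.assoc, Category.assoc, h]

theorem hom_ext_of_opens (W : ι → X.Opens) (hW : ∀ x, ∃ i, x ∈ W i) {g g' : X ⟶ Y}
    (h : ∀ i, (W i).ι ≫ g = (W i).ι ≫ g') : g = g' :=
  (Scheme.openCoverOfIsOpenCover X W (by
    rw [IsOpenCover, ← top_le_iff]
    exact fun x _ => Opens.mem_iSup.mpr (hW x))).hom_ext g g' h

end Groth.Agent.ProjUniv
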