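import Groth.Agent.ProjUniv.Chart
import Groth.Agent.ProjUniv.Glue

/-!
# Morphisms to projective space from generating sections
-/

set_option autoImplicit false
set_option synthInstance.maxHeartbeats 400000
set_option maxHeartbeats 1600000
universe u
open CategoryTheory CategoryTheory.Limits AlgebraicGeometry Opposite TopologicalSpace

namespace Groth.Agent.ProjUniv

open Groth.Agent.InvBasic

variable {n : ℕ} {R : Type u} [CommRing R] {X : Scheme.{u}}

/-- The morphism with coordinates `v` on `W`. -/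
noncomputable def localPoint (q : X ⟶ Spec (CommRingCat.of R)) (W : X.Opens) (v : Fin (n + 1) → Γ(X, W))
    (i : Fin (n + 1)) (hi : IsUnit (v i)) : (W : Scheme.{u}) ⟶ Proj (CohB1.polyGrading n R) :=
  W.toSpecΓ ≫ ProjPoint.point (sigma q W) v i hi

theorem homOfLE_localPoint (q : X ⟶ Spec (CommRingCat.of R)) {W V : X.Opens} (h : V ≤ W)
    (v : Fin (n + 1) → Γ(X, W)) (i : Fin (n + 1)) (hi : IsUnit (v i)) :
    X.homOfLE h ≫ localPoint q W v i hi =
      localPoint q V (fun k => resR h (v k)) i (hi.map (X.presheaf.map (homOfLE h).op).hom) := by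
  rw [localPoint, ← Category.assoc, ← Scheme.Opens.toSpecΓ_SpecMap_presheaf_map, Category.assoc]
  refine congrArg (V.toSpecΓ ≫ ·) ?_
  exact (ProjPoint.SpecMap_point (sigma q W) v i hi (X.presheaf.map (homOfLE h).op).hom).trans
    (ProjPoint.point_congr (resR_sigma q h) rfl)

theorem exists_hom (q : X ⟶ Spec (CommRingCat.of R)) {L : X.Modules} (hL : PicF.IsInvertible L)
    (s : Fin (n + 1) → ProjUP.Γm L) (hs : ProjUP.GeneratedBy L s) :
    ∃ (r : X ⟶ Proj (CohB1.polyGrading n R)) (_ : r ≫ CohB1.ProjSpace.toSpec n R = q) (τ : P1 r ≅ L),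
      ∀ i, τ.hom.app ⊤ (pco r i) = s i := by
  let W : Fin (n + 1) → X.Opens := fun i => genOpen hL (s i)
  have hW : ∀ x, ∃ i, x ∈ W i := fun x => exists_gen hL hs x
  have hb : ∀ i, IsBasis L (gres L (s i) (W i)) := fun i => isBasis_genOpen hL (s i)
  have hbj : ∀ i (V : X.Opens), V ≤ W i → Function.Bijective fun c : Γ(X, V) => c • gres L (s i) V := by
    intro i V hV
    have := hb i V hV
    simp only [gres, res, QCohLib.map_map] at this
    exact this
  choose v hv using fun i k => (hbj i (W i) le_rfl).2 (gres L (s k) (W i))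
  have hv' : ∀ i k, gres L (s k) (W i) = v i k • gres L (s i) (W i) := fun i k => (hv i k).symm
  have hvi : ∀ i, v i i = 1 := fun i => (hbj i (W i) le_rfl).1 ((hv i i).trans (one_smul _ _).symm)
  have hvu : ∀ i, IsUnit (v i i) := fun i => (hvi i).symm ▸ isUnit_one
  have hres : ∀ i k (V : X.Opens) (h : V ≤ W i), gres L (s k) V = resR h (v i k) • gres L (s i) V := by
    intro i k V h
    have e := congrArg (res L h) (hv' i k)
    simp only [res_smul, gres, res_res] at e
    exact e
  let f : ∀ i, (W i : Scheme.{u}) ⟶ Proj (CohB1.polyGrading n R) := fun i => localPoint q (W i) (v i) i (hvu i)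
  have agree : ∀ i j, X.homOfLE (inf_le_left : W i ⊓ W j ≤ W i) ≫ f i =
      X.homOfLE (inf_le_right : W i ⊓ W j ≤ W j) ≫ f j := by
    intro i j
    simp only [f]
    rw [homOfLE_localPoint, homOfLE_localPoint]
    refine congrArg ((W i ⊓ W j).toSpecΓ ≫ ·) ?_
    have hcomp : ∀ k, resR (inf_le_right : W i ⊓ W j ≤ W j) (v j k) =
        resR (inf_le_right : W i ⊓ W j ≤ W j) (v j i) * resR (inf_le_left : W i ⊓ W j ≤ W i) (v i k) := by
      intro k
      refine (hbj j _ inf_le_right).1 ?_
      dsimp only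
      rw [← hres j k _ inf_le_right, mul_comm, mul_smul, ← hres j i _ inf_le_right, ← hres i k _ inf_le_left]
    refine (ProjPoint.point_eq (sigma q (W i ⊓ W j)) ?_ hcomp i j _ _).symm
    refine isUnit_iff_exists_inv.mpr ⟨resR (inf_le_left : W i ⊓ W j ≤ W i) (v i j), (hcomp j).symm.trans ?_⟩
    rw [hvi]
    exact map_one _
  obtain ⟨r, hr⟩ := exists_glue W hW f agree
  have hq : r ≫ CohB1.ProjSpace.toSpec n R = q := by
    refine hom_ext_of_opens W hW fun i => ?_
    refine ((Category.assoc _ _ _).symm.trans (congrArg (· ≫ _) (hr i))).trans ?_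
    rw [ι_comp_eq_sigma]
    exact (Category.assoc _ _ _).trans (congrArg ((W i).toSpecΓ ≫ ·) (point_toSpec _ _ _ _))
  have hWD : ∀ i, W i ≤ r ⁻¹ᵁ D n R i := fun i x hx => by
    have e : r x = f i (⟨x, hx⟩ : W i) :=
      congrArg (fun g : (W i : Scheme.{u}) ⟶ Proj (CohB1.polyGrading n R) => g (⟨x, hx⟩ : W i)) (hr i)
    show r x ∈ D n R i
    rw [e]
    exact (Proj.opensRange_awayι (CohB1.polyGrading n R) _ (ProjPoint.X_mem i) one_pos).le
      ⟨(Spec.map (CommRingCat.ofHom (ProjPoint.evalAway (sigma q (W i)) (v i) (MvPolynomial.X i)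
        (ProjPoint.isUnit_eval_X (hvu i))))) ((W i).toSpecΓ ⟨x, hx⟩), rfl⟩
  have hcoef : ∀ i k, chartMap r (hWD i) (ProjPoint.coord i k) = v i k := by
    intro i k
    have e := (ι_comp_chart r (hWD i)).symm.trans (hr i)
    simp only [f, localPoint, ProjPoint.point] at e
    rw [← Category.assoc, ← Category.assoc, cancel_mono] at e
    have e2 := congrArg CommRingCat.Hom.hom (toSpecΓ_cancel e)
    simp only [CommRingCat.hom_ofHom] at e2
    rw [e2]
    exact evalAway_coord _ _ _ _ _ (hvi i)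
  obtain ⟨τ, hτ⟩ := exists_iso_of_bases (L := P1 r) (L' := L) (s := pco r) (s' := s) (W := W) hW
    (fun i => isBasis_pco r (hWD i)) hb v (fun i k => by rw [gres_pco r (hWD i) k, hcoef]) hv'
  exact ⟨r, hq, τ, hτ⟩

end Groth.Agent.ProjUniv
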