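import Groth.Prelude.Def_ProjUP
import Groth.Agent.InvBasic.Basic
import Groth.Agent.ProjTwist.Generated
import Groth.Agent.QCohLib.Pullback

/-!
# Generating sections of invertible modules
-/

set_option autoImplicit false
set_option synthInstance.maxHeartbeats 400000
universe u
open CategoryTheory CategoryTheory.Limits AlgebraicGeometry Opposite TopologicalSpace

namespace Groth.Agent.ProjUniv

open Groth.Agent.InvBasic

variable {X Y : Scheme.{u}}

/-- Restriction of sections. -/
noncomputable abbrev res (L : X.Modules) {W W' : X.Opens} (h : W' ≤ W) (t : Γ(L, W)) : Γ(L, W') :=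
  L.presheaf.map (homOfLE h).op t

/-- Restriction of functions. -/
noncomputable abbrev resR {W W' : X.Opens} (h : W' ≤ W) (c : Γ(X, W)) : Γ(X, W') :=
  X.presheaf.map (homOfLE h).op c

/-- Restriction of a global section. -/
noncomputable abbrev gres (L : X.Modules) (s : Γ(L, ⊤)) (W : X.Opens) : Γ(L, W) :=
  res L (le_top : W ≤ ⊤) s

theorem res_res (L : X.Modules) {W W' W'' : X.Opens} (h : W' ≤ W) (h' : W'' ≤ W') (t : Γ(L, W)) :
    res L h' (res L h t) = res L (h'.trans h) t := QCohLib.map_map L h' h t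

theorem res_smul (L : X.Modules) {W W' : X.Opens} (h : W' ≤ W) (c : Γ(X, W)) (t : Γ(L, W)) :
    res L h (c • t) = resR h c • res L h t := Scheme.Modules.map_smul L (homOfLE h) c t

theorem resR_resR {W W' W'' : X.Opens} (h : W' ≤ W) (h' : W'' ≤ W') (c : Γ(X, W)) :
    resR h' (resR h c) = resR (h'.trans h) c := QCohLib.ring_map_map h' h c

/-- `s` generates the stalk at `x`. -/
def Gen (L : X.Modules) (s : Γ(L, ⊤)) (x : X) : Prop :=
  ∀ y : L.presheaf.stalk x, ∃ c : X.presheaf.stalk x, c • L.presheaf.germ ⊤ x trivial s = y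

theorem gen_of_isBasis {L : X.Modules} {s : Γ(L, ⊤)} {U : X.Opens} (hb : IsBasis L (gres L s U)) {x : X}
    (hx : x ∈ U) : Gen L s x := fun y => by
  obtain ⟨c, hc⟩ := (hb.stalk_bijective hx).2 y
  refine ⟨c, ?_⟩
  dsimp only at hc
  rw [TopCat.Presheaf.germ_res_apply] at hc
  exact hc

theorem isBasis_of_cover {L : X.Modules} {U : X.Opens} {ℓ : Γ(L, U)}
    (h : ∀ x ∈ U, ∃ (V : X.Opens) (hV : V ≤ U), x ∈ V ∧ IsBasis L (res L hV ℓ)) : IsBasis L ℓ := by
  intro W hW
  choose V hV hxV hb using fun x : W => h x.1 (hW x.2)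
  let F : TopCat.Sheaf Ab X := ⟨L.presheaf, L.isSheaf⟩
  have hcov : W ≤ ⨆ x : W, W ⊓ V x := fun x hx => Opens.mem_iSup.mpr ⟨⟨x, hx⟩, hx, hxV ⟨x, hx⟩⟩
  constructor
  · intro a b hab
    refine TopCat.Sheaf.eq_of_locally_eq' X.sheaf (fun x : W => W ⊓ V x) W (fun x => homOfLE inf_le_left) hcov a b
      fun x => ?_
    refine (hb x (W ⊓ V x) inf_le_right).1 ?_
    have := congrArg (res L (inf_le_left : W ⊓ V x ≤ W)) hab
    simp only [res_smul, res_res] at this
    show _ • res L _ (res L (hV x) ℓ) = _ • res L _ (res L (hV x) ℓ)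
    rw [res_res]
    exact this
  · intro t
    choose c hc using fun x : W => (hb x (W ⊓ V x) inf_le_right).2 (res L (inf_le_left : W ⊓ V x ≤ W) t)
    have hcomp : TopCat.Presheaf.IsCompatible X.sheaf.obj (fun x : W => W ⊓ V x) c := by
      intro x y
      refine (hb x (W ⊓ V x ⊓ (W ⊓ V y)) (inf_le_left.trans inf_le_right)).1 ?_
      have ex := congrArg (res L (inf_le_left : W ⊓ V x ⊓ (W ⊓ V y) ≤ W ⊓ V x)) (hc x)
      have ey := congrArg (res L (inf_le_right : W ⊓ V x ⊓ (W ⊓ V y) ≤ W ⊓ V y)) (hc y)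
      simp only [res_smul] at ex ey
      simp only [res, QCohLib.map_map] at ex ey ⊢
      exact ex.trans ey.symm
    obtain ⟨g, hg, -⟩ := TopCat.Sheaf.existsUnique_gluing' X.sheaf (fun x : W => W ⊓ V x) W
      (fun x => homOfLE inf_le_left) hcov c hcomp
    refine ⟨(show Γ(X, W) from g), TopCat.Sheaf.eq_of_locally_eq' F (fun x : W => W ⊓ V x) W (fun x => homOfLE inf_le_left) hcov _ _
      fun x => ?_⟩
    show res L (inf_le_left : W ⊓ V x ≤ W) ((show Γ(X, W) from g) • res L hW ℓ) = res L (inf_le_left : W ⊓ V x ≤ W) t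
    rw [res_smul, res_res, ← hc x]
    dsimp only
    rw [show L.presheaf.map (homOfLE (inf_le_right : W ⊓ V x ≤ V x)).op (res L (hV x) ℓ) =
      res L ((inf_le_left : W ⊓ V x ≤ W).trans hW) ℓ from res_res L (hV x) _ ℓ]
    exact congrArg (· • _) (hg x)

theorem exists_nhd_of_gen {L : X.Modules} (hL : PicF.IsInvertible L) {s : Γ(L, ⊤)} {x : X} (h : Gen L s x) :
    ∃ V : X.Opens, x ∈ V ∧ IsBasis L (gres L s V) := by
  obtain ⟨U, hxU, ℓ, hℓ⟩ := exists_isBasis hL x
  obtain ⟨c, hc⟩ := (hℓ U le_rfl).2 (gres L s U)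
  dsimp only at hc
  rw [QCohLib.map_self] at hc
  have hunit : IsUnit (X.presheaf.germ U x hxU c) := by
    obtain ⟨d, hd⟩ := h (L.presheaf.germ U x hxU ℓ)
    refine isUnit_iff_exists_inv.mpr ⟨d, (hℓ.stalk_bijective hxU).1 ?_⟩
    have e1 : L.presheaf.germ U x hxU (gres L s U) = L.presheaf.germ ⊤ x trivial s :=
      TopCat.Presheaf.germ_res_apply _ _ _ _ _
    rw [← hc, InvBasic.germ_smul] at e1
    dsimp only
    rw [mul_comm, mul_smul, e1, hd, one_smul]
  refine ⟨X.basicOpen c, (X.mem_basicOpen c x hxU).mpr hunit, fun W hW => ?_⟩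
  have hWU : W ≤ U := hW.trans (X.basicOpen_le c)
  have hu : IsUnit (resR hWU c) := by
    have := (X.toRingedSpace.isUnit_res_basicOpen c).map (X.presheaf.map (homOfLE hW).op).hom
    change IsUnit (resR hW (resR (X.basicOpen_le c) c)) at this
    rwa [resR_resR] at this
  have e : ∀ r : Γ(X, W), r • (L.presheaf.map (homOfLE hW).op (gres L s (X.basicOpen c)) : Γ(L, W)) =
      (r * resR hWU c) • res L hWU ℓ := fun r => by
    show r • res L hW (res L le_top s) = _
    rw [res_res, mul_smul, ← res_smul, hc, res_res]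
  rw [show (fun r : Γ(X, W) => r • (L.presheaf.map (homOfLE hW).op (gres L s (X.basicOpen c)) : Γ(L, W))) =
    (fun r => r • res L hWU ℓ) ∘ (fun r => r * resR hWU c) from funext e]
  exact (hℓ W hWU).comp (hu.unit.mulRight.bijective)

/-- The open set where `s` generates. -/
noncomputable def genOpen {L : X.Modules} (hL : PicF.IsInvertible L) (s : Γ(L, ⊤)) : X.Opens :=
  ⟨{x | Gen L s x}, isOpen_iff_forall_mem_open.mpr fun x hx => by
    obtain ⟨V, hxV, hV⟩ := exists_nhd_of_gen hL hx
    exact ⟨V, fun y hy => gen_of_isBasis hV hy, V.2, hxV⟩⟩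

theorem mem_genOpen {L : X.Modules} (hL : PicF.IsInvertible L) {s : Γ(L, ⊤)} {x : X} :
    x ∈ genOpen hL s ↔ Gen L s x := Iff.rfl

theorem isBasis_genOpen {L : X.Modules} (hL : PicF.IsInvertible L) (s : Γ(L, ⊤)) :
    IsBasis L (gres L s (genOpen hL s)) := by
  refine isBasis_of_cover fun x hx => ?_
  obtain ⟨V, hxV, hV⟩ := exists_nhd_of_gen hL (hx : Gen L s x)
  have hVle : V ≤ genOpen hL s := fun y hy => gen_of_isBasis hV hy
  refine ⟨V, hVle, hxV, ?_⟩
  show IsBasis L (res L hVle (res L le_top s))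
  rw [res_res]
  exact hV

theorem exists_gen {L : X.Modules} (hL : PicF.IsInvertible L) {ι : Type*} {s : ι → Γ(L, ⊤)}
    (hs : ProjUP.GeneratedBy L s) (x : X) : ∃ i, Gen L (s i) x := by
  obtain ⟨U, hxU, ℓ, hℓ⟩ := exists_isBasis hL x
  let φ := LinearMap.toSpanSingleton (X.presheaf.stalk x) (L.presheaf.stalk x) (L.presheaf.germ U x hxU ℓ)
  have hφ : Function.Bijective φ := hℓ.stalk_bijective hxU
  choose a ha using fun i => hφ.2 (L.presheaf.germ ⊤ x trivial (s i))
  obtain ⟨i, hi⟩ : ∃ i, IsUnit (a i) := by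
    by_contra hc
    push Not at hc
    have h1 : φ 1 ∈ Submodule.map φ (IsLocalRing.maximalIdeal (X.presheaf.stalk x)) := by
      refine (Submodule.span_le.mpr ?_ : _ ≤ _) ((hs x).ge (Submodule.mem_top : φ 1 ∈ ⊤))
      rintro _ ⟨i, rfl⟩
      exact ⟨a i, (IsLocalRing.mem_maximalIdeal _).mpr (hc i), ha i⟩
    obtain ⟨m, hm, hm1⟩ := h1
    rw [hφ.1 hm1] at hm
    exact (IsLocalRing.mem_maximalIdeal _).mp hm isUnit_one
  refine ⟨i, fun y => ?_⟩
  obtain ⟨b, rfl⟩ := hφ.2 y
  obtain ⟨u, hu⟩ := hi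
  refine ⟨b * ↑u⁻¹, ?_⟩
  rw [← ha i, ← hu]
  show _ • ((u : X.presheaf.stalk x) • L.presheaf.germ U x hxU ℓ) = b • _
  rw [smul_smul, Units.inv_mul_cancel_right]

theorem app_add {M N : X.Modules} (f g : M ⟶ N) (U : X.Opens) (t : Γ(M, U)) :
    (f + g).app U t = f.app U t + g.app U t := rfl

open scoped CategoryTheory.Limits in
theorem generatedBy_of_hom_ext {L : X.Modules} {k : ℕ} (s : Fin k → ProjUP.Γm L)
    (h : ∀ {N : X.Modules} (f g : L ⟶ N), (∀ i, f.app ⊤ (s i) = g.app ⊤ (s i)) → f = g) :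
    ProjUP.GeneratedBy L s := by
  have : HasFiniteBiproducts X.Modules := HasFiniteBiproducts.of_hasFiniteProducts
  let p : (⨁ fun _ : Fin k => Coh.structureModule X) ⟶ L := biproduct.desc fun i => ProjTwist.globalHom L (s i)
  have hp : Epi p := ⟨fun {N} f g hfg => h f g fun i => by
    have e := congrArg (fun q => biproduct.ι (fun _ : Fin k => Coh.structureModule X) i ≫ q) hfg
    simp only [p, biproduct.ι_desc_assoc] at e
    have e1 := congrArg (fun q : Coh.structureModule X ⟶ N => q.app ⊤ (1 : Γ(X, ⊤))) e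
    change f.app ⊤ ((ProjTwist.globalHom L (s i)).app ⊤ (1 : Γ(X, ⊤))) =
      g.app ⊤ ((ProjTwist.globalHom L (s i)).app ⊤ (1 : Γ(X, ⊤))) at e1
    rwa [ProjTwist.globalHom_app, one_smul, QCohLib.map_self] at e1⟩
  intro x
  rw [eq_top_iff]
  rintro y -
  obtain ⟨z, rfl⟩ := (QCohLib.epi_iff_stalk_surjective p).mp hp x y
  obtain ⟨U, hxU, t, rfl⟩ := TopCat.Presheaf.exists_germ_eq _ z
  rw [QCohLib.stalkHom_germ]
  have hsum : p.app U t = ∑ i, (biproduct.π (fun _ : Fin k => Coh.structureModule X) i ≫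
      ProjTwist.globalHom L (s i)).app U t := by
    have e : p = ∑ i, biproduct.π (fun _ : Fin k => Coh.structureModule X) i ≫ ProjTwist.globalHom L (s i) :=
      biproduct.desc_eq
    rw [e]
    exact map_sum (AddMonoidHom.mk' (fun f : _ ⟶ L => f.app U t) fun f g => app_add f g U t) _ _
  rw [hsum, map_sum]
  refine Submodule.sum_mem _ fun i _ => ?_
  show L.presheaf.germ U x hxU ((ProjTwist.globalHom L (s i)).app U
    ((biproduct.π (fun _ : Fin k => Coh.structureModule X) i).app U t)) ∈ _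
  generalize (biproduct.π (fun _ : Fin k => Coh.structureModule X) i).app U t = c
  show L.presheaf.germ U x hxU ((ProjTwist.globalHom L (s i)).app U (show Γ(X, U) from c)) ∈ _
  rw [ProjTwist.globalHom_app, InvBasic.germ_smul, TopCat.Presheaf.germ_res_apply]
  exact Submodule.smul_mem _ _ (Submodule.subset_span ⟨i, rfl⟩)

theorem hom_ext_of_generatedBy {L N : X.Modules} {ι : Type*} {s : ι → ProjUP.Γm L} (hs : ProjUP.GeneratedBy L s)
    {f g : L ⟶ N} (h : ∀ i, f.app ⊤ (s i) = g.app ⊤ (s i)) : f = g := by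
  refine QCohLib.eq_of_stalkHom_eq f g fun x => ?_
  ext y
  have key : QCohLib.stalkLinearMap f x = QCohLib.stalkLinearMap g x := by
    refine LinearMap.ext_on_range (hs x) fun i => ?_
    rw [QCohLib.stalkLinearMap_apply, QCohLib.stalkLinearMap_apply]
    exact (QCohLib.stalkHom_germ f ⊤ x trivial (s i)).trans
      ((congrArg _ (h i)).trans (QCohLib.stalkHom_germ g ⊤ x trivial (s i)).symm)
  have := LinearMap.congr_fun key y
  rwa [QCohLib.stalkLinearMap_apply, QCohLib.stalkLinearMap_apply] at this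

/-- Inverse images of generating sections generate. -/
theorem generatedBy_pullSec (f : X ⟶ Y) {M : Y.Modules} {k : ℕ} {s : Fin k → ProjUP.Γm M}
    (hs : ProjUP.GeneratedBy M s) :
    ProjUP.GeneratedBy ((Scheme.Modules.pullback f).obj M) fun i => ProjUP.pullSec f M (s i) := by
  refine generatedBy_of_hom_ext _ fun {N} a b hab => ?_
  apply ((Scheme.Modules.pullbackPushforwardAdjunction f).homEquiv M N).injective
  refine hom_ext_of_generatedBy hs fun i => ?_
  rw [Adjunction.homEquiv_unit, Adjunction.homEquiv_unit]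
  exact hab i

theorem isInvertible_pullback (f : X ⟶ Y) {M : Y.Modules} (hM : PicF.IsInvertible M) :
    PicF.IsInvertible ((Scheme.Modules.pullback f).obj M) := fun x => by
  obtain ⟨U, hxU, ⟨e⟩⟩ := hM (f x)
  exact ⟨f ⁻¹ᵁ U, hxU, ⟨(QCohLib.pullbackRestrictIso f M (f ∣_ U) _ _ (morphismRestrict_ι f U)).symm ≪≫
    (Scheme.Modules.pullback (f ∣_ U)).mapIso e ≪≫ QCohLib.pullbackUnitIso (f ∣_ U)⟩⟩

section match_bases

variable {L L' : X.Modules} {ι : Type*} (s : ι → Γ(L, ⊤)) (s' : ι → Γ(L', ⊤)) (W : ι → X.Opens)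

/-- `t` corresponds to `q` chart by chart. -/
def Rel (U : X.Opens) (q : Γ(L, U)) (t : Γ(L', U)) : Prop :=
  ∀ i (V : X.Opens) (hU : V ≤ U) (_ : V ≤ W i) (c : Γ(X, V)),
    res L hU q = c • gres L (s i) V → res L' hU t = c • gres L' (s' i) V

variable {s s' W} (hW : ∀ x, ∃ i, x ∈ W i) (hb : ∀ i, IsBasis L (gres L (s i) (W i)))
  (hb' : ∀ i, IsBasis L' (gres L' (s' i) (W i))) (v : ∀ i, ι → Γ(X, W i))
  (hv : ∀ i j, gres L (s j) (W i) = v i j • gres L (s i) (W i))
  (hv' : ∀ i j, gres L' (s' j) (W i) = v i j • gres L' (s' i) (W i))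

include hW hb hv hv' in
theorem existsUnique_rel (U : X.Opens) (q : Γ(L, U)) : ∃! t, Rel s s' W U q t := by
  let F : TopCat.Sheaf Ab X := ⟨L'.presheaf, L'.isSheaf⟩
  have hcov : U ≤ ⨆ i, U ⊓ W i := fun x hx => by
    obtain ⟨i, hi⟩ := hW x
    exact Opens.mem_iSup.mpr ⟨i, hx, hi⟩
  have hex : ∀ i (V : X.Opens) (hU : V ≤ U) (hi : V ≤ W i), ∃ c : Γ(X, V), res L hU q = c • gres L (s i) V := by
    intro i V hU hi
    obtain ⟨c, hc⟩ := (hb i V hi).2 (res L hU q)
    refine ⟨c, hc.symm.trans ?_⟩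
    show c • res L hi (res L le_top (s i)) = _
    rw [res_res]
  have huniq : ∀ i (V : X.Opens) (_ : V ≤ W i) {c c' : Γ(X, V)},
      c • gres L (s i) V = c' • gres L (s i) V → c = c' := by
    intro i V hi c c' e
    refine (hb i V hi).1 ?_
    show c • res L hi (res L le_top (s i)) = c' • res L hi (res L le_top (s i))
    rw [res_res]
    exact e
  choose c hc using fun i => hex i (U ⊓ W i) inf_le_left inf_le_right
  have hmove : ∀ i j (V : X.Opens) (hi : V ≤ W i) (_ : V ≤ W j) (a b : Γ(X, V)),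
      a • gres L (s i) V = b • gres L (s j) V → a • gres L' (s' i) V = b • gres L' (s' j) V := by
    intro i j V hi hj a b e
    have e1 := congrArg (res L hi) (hv i j)
    have e2 := congrArg (res L' hi) (hv' i j)
    simp only [res_smul, gres, res_res] at e1 e2
    rw [gres, gres, e1, smul_smul] at e
    rw [gres, gres, e2, smul_smul, huniq i V hi e]
  obtain ⟨t, ht, htu⟩ := TopCat.Sheaf.existsUnique_gluing' F (fun i => U ⊓ W i) U (fun i => homOfLE inf_le_left) hcov
    (fun i => c i • gres L' (s' i) (U ⊓ W i)) (fun i j => by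
      show res L' inf_le_left (c i • _) = res L' inf_le_right (c j • _)
      rw [res_smul, res_smul, gres, gres, res_res, res_res]
      refine hmove i j _ (inf_le_left.trans inf_le_right) (inf_le_right.trans inf_le_right) _ _ ?_
      have ei := congrArg (res L (inf_le_left : U ⊓ W i ⊓ (U ⊓ W j) ≤ U ⊓ W i)) (hc i)
      have ej := congrArg (res L (inf_le_right : U ⊓ W i ⊓ (U ⊓ W j) ≤ U ⊓ W j)) (hc j)
      simp only [res_smul, gres, res_res] at ei ej
      exact ei.symm.trans ej)
  refine ⟨t, fun i V hU hi a ha => ?_, fun t' ht' => htu t' fun i => ht' i _ inf_le_left inf_le_right _ (hc i)⟩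
  have e := congrArg (res L' (le_inf hU hi)) (ht i)
  change res L' (le_inf hU hi) (res L' inf_le_left t) = res L' (le_inf hU hi) (c i • gres L' (s' i) (U ⊓ W i)) at e
  rw [res_res, res_smul, gres, res_res] at e
  rw [e]
  refine congrArg (· • gres L' (s' i) V) (huniq i V hi ?_)
  have e3 := congrArg (res L (le_inf hU hi)) (hc i)
  simp only [res_smul, gres, res_res] at e3
  exact e3.symm.trans ha

/-- The section corresponding to `q`. -/
noncomputable def relVal (U : X.Opens) (q : Γ(L, U)) : Γ(L', U) :=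
  (existsUnique_rel hW hb v hv hv' U q).choose

theorem rel_relVal (U : X.Opens) (q : Γ(L, U)) : Rel s s' W U q (relVal hW hb v hv hv' U q) :=
  (existsUnique_rel hW hb v hv hv' U q).choose_spec.1

theorem relVal_eq {U : X.Opens} {q : Γ(L, U)} {t : Γ(L', U)} (h : Rel s s' W U q t) :
    relVal hW hb v hv hv' U q = t :=
  ((existsUnique_rel hW hb v hv hv' U q).choose_spec.2 t h).symm

include hb in
theorem rel_add {U : X.Opens} {q q' : Γ(L, U)} {t t' : Γ(L', U)} (h : Rel s s' W U q t) (h' : Rel s s' W U q' t') :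
    Rel s s' W U (q + q') (t + t') := by
  intro i V hU hi a ha
  obtain ⟨c, hc⟩ := (hb i V hi).2 (res L hU q)
  have hc' : res L hU q = c • gres L (s i) V := by
    refine hc.symm.trans ?_
    show c • res L hi (res L le_top (s i)) = _
    rw [res_res]
  have hrest : res L hU q' = (a - c) • gres L (s i) V := by
    rw [sub_smul, ← ha, ← hc', show res L hU (q + q') = res L hU q + res L hU q' from map_add _ _ _,
      add_sub_cancel_left]
  show res L' hU (t + t') = _
  rw [show res L' hU (t + t') = res L' hU t + res L' hU t' from map_add _ _ _]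
  rw [h i V hU hi c hc', h' i V hU hi _ hrest, ← add_smul, add_sub_cancel]

include hb in
theorem rel_smul {U : X.Opens} (b : Γ(X, U)) {q : Γ(L, U)} {t : Γ(L', U)} (h : Rel s s' W U q t) :
    Rel s s' W U (b • q) (b • t) := by
  intro i V hU hi a ha
  obtain ⟨c, hc⟩ := (hb i V hi).2 (res L hU q)
  have hc' : res L hU q = c • gres L (s i) V := by
    refine hc.symm.trans ?_
    show c • res L hi (res L le_top (s i)) = _
    rw [res_res]
  rw [res_smul, hc', smul_smul] at ha
  rw [res_smul, h i V hU hi c hc', smul_smul]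
  refine congrArg (· • gres L' (s' i) V) ((hb i V hi).1 ?_)
  show _ • res L hi (res L le_top (s i)) = _ • res L hi (res L le_top (s i))
  rw [res_res]
  exact ha

theorem rel_res {U U' : X.Opens} (hUU : U' ≤ U) {q : Γ(L, U)} {t : Γ(L', U)} (h : Rel s s' W U q t) :
    Rel s s' W U' (res L hUU q) (res L' hUU t) := by
  intro i V hU hi a ha
  rw [res_res] at ha ⊢
  exact h i V _ hi a ha

/-- The morphism matching the bases. -/
noncomputable def matchHom : L ⟶ L' :=
  ⟨PresheafOfModules.homMk
    { app := fun U => AddCommGrpCat.ofHom (AddMonoidHom.mk' (fun q => relVal hW hb v hv hv' U.unop q)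
        fun q q' => relVal_eq hW hb v hv hv' (rel_add hb (rel_relVal hW hb v hv hv' _ q) (rel_relVal hW hb v hv hv' _ q')))
      naturality := fun {U U'} i => by
        ext q
        exact relVal_eq hW hb v hv hv' (rel_res (leOfHom i.unop) (rel_relVal hW hb v hv hv' U.unop q)) }
    (fun U b q => relVal_eq hW hb v hv hv' (rel_smul hb b (rel_relVal hW hb v hv hv' U.unop q)))⟩

theorem matchHom_app (U : X.Opens) (q : Γ(L, U)) :
    (matchHom hW hb v hv hv').app U q = relVal hW hb v hv hv' U q := rfl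

include hW hb hb' hv hv' in
/-- Invertible modules with the same transition coefficients are isomorphic, compatibly with the sections. -/
theorem exists_iso_of_bases : ∃ τ : L ≅ L', ∀ i, τ.hom.app ⊤ (s i) = s' i := by
  have hsymm : ∀ {U : X.Opens} {q : Γ(L, U)} {t : Γ(L', U)}, Rel s s' W U q t → Rel s' s W U t q := by
    intro U q t h i V hU hi a ha
    obtain ⟨c, hc⟩ := (hb i V hi).2 (res L hU q)
    have hc' : res L hU q = c • gres L (s i) V := by
      refine hc.symm.trans ?_
      show c • res L hi (res L le_top (s i)) = _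
      rw [res_res]
    rw [h i V hU hi c hc'] at ha
    rw [hc']
    refine congrArg (· • gres L (s i) V) ((hb' i V hi).1 ?_)
    show _ • res L' hi (res L' le_top (s' i)) = _ • res L' hi (res L' le_top (s' i))
    rw [res_res]
    exact ha
  refine ⟨⟨matchHom hW hb v hv hv', matchHom hW hb' v hv' hv, ?_, ?_⟩, fun j => ?_⟩
  · refine Scheme.Modules.hom_ext _ _ fun U => ?_
    ext q
    exact relVal_eq hW hb' v hv' hv (hsymm (rel_relVal hW hb v hv hv' U q))
  · refine Scheme.Modules.hom_ext _ _ fun U => ?_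
    ext q
    refine relVal_eq hW hb v hv hv' ?_
    intro i V hU hi a ha
    obtain ⟨c, hc⟩ := (hb' i V hi).2 (res L' hU q)
    have hc' : res L' hU q = c • gres L' (s' i) V := by
      refine hc.symm.trans ?_
      show c • res L' hi (res L' le_top (s' i)) = _
      rw [res_res]
    have h2 : res L hU ((matchHom hW hb' v hv' hv).app U q) = a • gres L (s i) V := ha
    rw [matchHom_app, rel_relVal hW hb' v hv' hv U q i V hU hi c hc'] at h2
    show res L' hU q = _
    rw [hc']
    refine congrArg (· • gres L' (s' i) V) ((hb i V hi).1 ?_)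
    show _ • res L hi (res L le_top (s i)) = _ • res L hi (res L le_top (s i))
    rw [res_res]
    exact h2
  · refine relVal_eq hW hb v hv hv' ?_
    intro i V hU hi a ha
    have e1 := congrArg (res L hi) (hv i j)
    have e2 := congrArg (res L' hi) (hv' i j)
    simp only [res_smul, gres, res_res] at e1 e2
    change res L le_top (s j) = _ at ha
    show res L' le_top (s' j) = _
    rw [e2]
    refine congrArg (· • gres L' (s' i) V) ((hb i V hi).1 ?_)
    show _ • res L hi (res L le_top (s i)) = _ • res L hi (res L le_top (s i))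
    rw [res_res]
    exact e1.symm.trans ha

end match_bases

end Groth.Agent.ProjUniv
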