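import Groth.Agent.ProjUniv.Exists
import Groth.Agent.ProjUniv.AffineBase

/-!
# Sections of projective space and kernels
-/

set_option autoImplicit false
set_option synthInstance.maxHeartbeats 400000
set_option maxHeartbeats 800000
universe u
open CategoryTheory CategoryTheory.Limits AlgebraicGeometry Opposite TopologicalSpace

namespace Groth.Agent.ProjUniv

section affine

variable {A : CommRingCat.{u}} {k : ℕ} {M M' : (Spec A).Modules}

/-- The linear map of a family of global sections. -/
noncomputable def relMap (s : Fin k → Γ(M, ⊤)) : (Fin k → A) →ₗ[A] Γ(M, ⊤) := Fintype.linearCombination A s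

theorem relMap_single (s : Fin k → Γ(M, ⊤)) (i : Fin k) : relMap s (Pi.single i 1) = s i := by
  classical
  rw [relMap, Fintype.linearCombination_apply_single, one_smul]

theorem relMap_eq_sum (s : Fin k → Γ(M, ⊤)) (c : Fin k → A) :
    relMap s c = ∑ i, ((Scheme.ΓSpecIso A).inv (c i) : Γ(Spec A, ⊤)) • s i := by
  rw [relMap, Fintype.linearCombination_apply]
  exact Finset.sum_congr rfl fun i _ => smul_top_def _ _ _

theorem relMap_app (τ : M ≅ M') (s : Fin k → Γ(M, ⊤)) (c : Fin k → A) :
    τ.hom.app ⊤ (relMap s c) = relMap (fun i => τ.hom.app ⊤ (s i)) c := by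
  rw [relMap_eq_sum, relMap_eq_sum, map_sum]
  exact Finset.sum_congr rfl fun i _ => Scheme.Modules.Hom.app_smul _ _ _

theorem relMap_surjective (hM : PicF.IsInvertible M) (s : Fin k → Γ(M, ⊤)) (hs : ProjUP.GeneratedBy M s) :
    Function.Surjective (relMap s) :=
  have := InvBasic.isQuasicoherent_of_isInvertible hM
  linearCombination_surjective s hs

/-- The relations of a family of global sections. -/
noncomputable def relKer (s : Fin k → Γ(M, ⊤)) : Submodule A (Fin k → A) := (relMap s).ker

theorem mem_relKer (s : Fin k → Γ(M, ⊤)) (c : Fin k → A) : c ∈ relKer s ↔ relMap s c = 0 := Iff.rfl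

theorem app_top_injective {X : Scheme.{u}} {L L' : X.Modules} (τ : L ≅ L') :
    Function.Injective (τ.hom.app ⊤) :=
  Function.LeftInverse.injective (g := τ.inv.app ⊤) fun x =>
    ConcreteCategory.congr_hom (congrArg (fun f => Scheme.Modules.Hom.app f ⊤) τ.hom_inv_id) x

theorem exists_iso_of_ker_eq (hM : PicF.IsInvertible M) (hM' : PicF.IsInvertible M') (s : Fin k → Γ(M, ⊤))
    (s' : Fin k → Γ(M', ⊤)) (hs : ProjUP.GeneratedBy M s) (hs' : ProjUP.GeneratedBy M' s')
    (h : relKer s = relKer s') : ∃ τ : M ≅ M', ∀ i, τ.hom.app ⊤ (s i) = s' i := by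
  classical
  have := InvBasic.isQuasicoherent_of_isInvertible hM
  have := InvBasic.isQuasicoherent_of_isInvertible hM'
  let e : Γ(M, ⊤) ≃ₗ[A] Γ(M', ⊤) :=
    ((relMap s).quotKerEquivOfSurjective (relMap_surjective hM s hs)).symm.trans
      ((Submodule.quotEquivOfEq _ _ (show (relMap s).ker = (relMap s').ker from h)).trans
        ((relMap s').quotKerEquivOfSurjective (relMap_surjective hM' s' hs')))
  obtain ⟨τ, hτ⟩ := exists_iso_of_Γ (M := M) (M' := M')
    (LinearEquiv.toModuleIso (X₁ := QCohLib.ΓR M) (X₂ := QCohLib.ΓR M') e)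
  refine ⟨τ, fun i => (hτ _).trans ?_⟩
  show e (s i) = s' i
  have hsymm : ((relMap s).quotKerEquivOfSurjective (relMap_surjective hM s hs)).symm (s i) =
      Submodule.Quotient.mk (Pi.single i 1) := by
    rw [LinearEquiv.symm_apply_eq, LinearMap.quotKerEquivOfSurjective_apply_mk, relMap_single]
  simp only [e, LinearEquiv.trans_apply, hsymm, Submodule.quotEquivOfEq_mk,
    LinearMap.quotKerEquivOfSurjective_apply_mk, relMap_single]

theorem projective_rank_one_quot (hM : PicF.IsInvertible M) (s : Fin k → Γ(M, ⊤)) (hs : ProjUP.GeneratedBy M s)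
    (F : Submodule A (Fin k → A)) (hF : F = relKer s) :
    Module.Projective A ((Fin k → A) ⧸ F) ∧ ∀ p, Module.rankAtStalk (R := A) ((Fin k → A) ⧸ F) p = 1 := by
  subst hF
  let e := (relMap s).quotKerEquivOfSurjective (relMap_surjective hM s hs)
  obtain ⟨hP, hr⟩ := projective_rank_one_of_isInvertible hM
  exact ⟨Module.Projective.of_equiv e.symm, fun p =>
    (congrFun (Module.rankAtStalk_eq_of_equiv e) p).trans (hr p)⟩

theorem exists_generated_of_quot (F : Submodule A (Fin k → A)) [Module.Projective A ((Fin k → A) ⧸ F)]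
    (hr : ∀ p, Module.rankAtStalk (R := A) ((Fin k → A) ⧸ F) p = 1) :
    ∃ (L : (Spec A).Modules) (s : Fin k → Γ(L, ⊤)), PicF.IsInvertible L ∧ ProjUP.GeneratedBy L s ∧
      relKer s = F := by
  classical
  let N : ModuleCat.{u} A := ModuleCat.of A ((Fin k → A) ⧸ F)
  let η := (tilde.adjunction (R := A)).unit.app N
  let v : Fin k → N := fun i => F.mkQ (Pi.single i 1)
  have hv : Submodule.span A (Set.range v) = ⊤ := by
    rw [show Set.range v = F.mkQ '' Set.range (fun i => Pi.single i (1 : A)) from (Set.range_comp F.mkQ _),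
      Submodule.span_image, show (fun i => Pi.single i (1 : A)) = ⇑(Pi.basisFun A (Fin k)) from
        funext fun i => (Pi.basisFun_apply A (Fin k) i).symm, Module.Basis.span_eq, Submodule.map_top,
      Submodule.range_mkQ]
  have : Module.Finite A N := inferInstanceAs (Module.Finite A ((Fin k → A) ⧸ F))
  have : Module.Projective A N := inferInstanceAs (Module.Projective A ((Fin k → A) ⧸ F))
  obtain ⟨hL, hgen⟩ := isInvertible_tilde N hr v hv
  let s : Fin k → Γ(tilde N, ⊤) := fun i => η (v i)
  refine ⟨tilde N, s, hL, hgen, Submodule.ext fun c => ?_⟩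
  have hc : relMap s c = η (F.mkQ c) := by
    refine (Fintype.linearCombination_apply A s c).trans ?_
    simp only [s]
    conv_rhs => rw [pi_eq_sum_univ' c, map_sum]
    refine ((map_sum η.hom _ _).trans (Finset.sum_congr rfl fun i _ => ?_)).symm
    rw [map_smul]
    exact map_smul η.hom (c i) (v i)
  rw [mem_relKer, hc]
  refine ⟨fun h => (Submodule.Quotient.mk_eq_zero F).mp
    ((ConcreteCategory.bijective_of_isIso η).1 (h.trans (map_zero η.hom).symm)), fun h => ?_⟩
  rw [show F.mkQ c = 0 from (Submodule.Quotient.mk_eq_zero F).mpr h]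
  exact map_zero η.hom

end affine

variable {R : Type u} [CommRing R] {n : ℕ}

theorem mem_secKernel_iff (r : Spec (CommRingCat.of R) ⟶ Proj (CohB1.polyGrading n R)) (c : Fin (n + 1) → R) :
    c ∈ ProjUP.secKernel n R r ↔ relMap (A := CommRingCat.of R) (pco r) c = 0 := by
  let _ : Module R (ProjUP.Γm ((Scheme.Modules.pullback r).obj (O1 n R))) :=
    Module.compHom _ (Scheme.ΓSpecIso (CommRingCat.of R)).inv.hom
  rw [relMap_eq_sum (A := CommRingCat.of R)]
  show Fintype.linearCombination R
    (fun i => (pco r i : ProjUP.Γm ((Scheme.Modules.pullback r).obj (O1 n R)))) c = 0 ↔ _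
  rw [Fintype.linearCombination_apply]
  rfl

theorem secKernel_eq (r : Spec (CommRingCat.of R) ⟶ Proj (CohB1.polyGrading n R)) :
    (ProjUP.secKernel n R r : Set (Fin (n + 1) → R)) = relKer (A := CommRingCat.of R) (pco r) :=
  Set.ext fun c => mem_secKernel_iff r c

/-- Sections with the same relations give isomorphic pullbacks. -/
theorem exists_iso_of_secKernel_eq (r r' : Spec (CommRingCat.of R) ⟶ Proj (CohB1.polyGrading n R))
    (h : ProjUP.secKernel n R r = ProjUP.secKernel n R r') :
    ∃ τ : P1 r ≅ P1 r', ∀ i, τ.hom.app ⊤ (pco r i) = pco r' i :=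
  exists_iso_of_ker_eq (isInvertible_P1 r) (isInvertible_P1 r') _ _ (generatedBy_pco r) (generatedBy_pco r')
    (SetLike.coe_injective ((secKernel_eq r).symm.trans ((congrArg SetLike.coe h).trans (secKernel_eq r'))))

theorem exists_section_iff (F : Submodule R (Fin (n + 1) → R)) :
    (∃ s : Spec (CommRingCat.of R) ⟶ Proj (CohB1.polyGrading n R),
        s ≫ CohB1.ProjSpace.toSpec n R = 𝟙 _ ∧ ProjUP.secKernel n R s = F) ↔
      (Module.Projective R ((Fin (n + 1) → R) ⧸ F) ∧
        ∀ p : PrimeSpectrum R, Module.finrank (Localization.AtPrime p.asIdeal)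
          (LocalizedModule p.asIdeal.primeCompl ((Fin (n + 1) → R) ⧸ F)) = 1) := by
  let F' : Submodule (CommRingCat.of R) (Fin (n + 1) → CommRingCat.of R) := F
  constructor
  · rintro ⟨r, -, rfl⟩
    exact projective_rank_one_quot (A := CommRingCat.of R) (isInvertible_P1 r) _ (generatedBy_pco r) _
      (SetLike.coe_injective (secKernel_eq r))
  · rintro ⟨hP, hr⟩
    have : Module.Projective (CommRingCat.of R) ((Fin (n + 1) → CommRingCat.of R) ⧸ F') := hP
    obtain ⟨L, s, hL, hgen, hker⟩ := exists_generated_of_quot (A := CommRingCat.of R) F' hr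
    obtain ⟨r, hq, τ, hτ⟩ := exists_hom (𝟙 (Spec (CommRingCat.of R))) hL s hgen
    refine ⟨r, hq, Submodule.ext fun c => ?_⟩
    rw [mem_secKernel_iff, show (c ∈ F) = (c ∈ F') from rfl, ← hker, mem_relKer]
    refine (map_eq_zero_iff _ (app_top_injective τ)).symm.trans ?_
    rw [relMap_app, funext hτ]

end Groth.Agent.ProjUniv
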