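import Groth.Agent.ProjUniv.SymPoint
import Groth.Agent.ProjUniv.Glue

/-!
# Morphisms to `Proj` of a symmetric algebra
-/

set_option autoImplicit false
set_option synthInstance.maxHeartbeats 400000
set_option maxHeartbeats 1600000
universe u
open CategoryTheory CategoryTheory.Limits AlgebraicGeometry Opposite TopologicalSpace HomogeneousLocalization

namespace Groth.Agent.ProjUniv.Sym

open Groth.Agent.InvBasic

variable {A S : Type u} [CommRing A] [CommRing S] [Algebra A S] {𝒮 : ℕ → Submodule A S} [GradedAlgebra 𝒮]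
variable {M : Type u} [AddCommGroup M] [Module A M] {ι : M →ₗ[A] S} (hι : ∀ m : M, ι m ∈ 𝒮 1)

variable (𝒮) in
/-- `O(1)`. -/
noncomputable abbrev O1 : (Proj 𝒮).Modules := Twist.twist 𝒮 (1 : ℤ)

variable (𝒮 ι) in
/-- The standard open of `m`. -/
noncomputable abbrev D (m : M) : (Proj 𝒮).Opens := Proj.basicOpen 𝒮 (ι m)

/-- The section of `m`. -/
noncomputable abbrev sec (m : M) : ProjUP.Γm (O1 𝒮) := Twist.globalOf 𝒮 ⟨ι m, hι m⟩

theorem isBasis_sec (m : M) : IsBasis (O1 𝒮) (gres (O1 𝒮) (sec hι m) (D 𝒮 ι m)) := by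
  intro W hW
  exact ProjTwist.bijective_smul_fracSect (𝒜 := 𝒮) (W := W) (i := 1) (j := 0)
    ⟨ι m, hι m⟩ ⟨1, SetLike.GradedOne.one_mem⟩ (fun x => hW x.2)
    (fun x => ProjTwist.notMem_one 𝒮 x.1) (by simp)

theorem sec_rel (i k : M) :
    gres (O1 𝒮) (sec hι k) (D 𝒮 ι i) =
      (Proj.awayToSection 𝒮 (ι i) (co 𝒮 hι i k) : Γ(Proj 𝒮, D 𝒮 ι i)) • gres (O1 𝒮) (sec hι i) (D 𝒮 ι i) := by
  refine ProjTwist.sectN_ext fun y => Eq.symm ?_
  refine (ProjTwist.smulT_val _ _ y).trans ?_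
  change ((((ProjectiveSpectrum.Proj.awayToSection 𝒮 (ι i)).1 (co 𝒮 hι i k)).1 y)).val *
    Localization.mk (ι i) ⟨1, _⟩ = Localization.mk (ι k) ⟨1, _⟩
  refine (congrArg (· * _) (ProjectiveSpectrum.Proj.awayToSection_apply (𝒜 := 𝒮) (ι i)
    (co 𝒮 hι i k) y)).trans ?_
  rw [co, HomogeneousLocalization.Away.val_mk, Localization.mk_eq_mk', IsLocalization.map_mk']
  erw [← Localization.mk_eq_mk', Localization.mk_mul]
  rw [Localization.mk_eq_mk_iff, Localization.r_iff_exists]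
  exact ⟨1, by simp; ring⟩

variable (hsym : IsSymmetricAlgebra ι)

include hι hsym in
theorem isInvertible_O1 : PicF.IsInvertible (O1 𝒮) := by
  refine ProjTwist.isInvertible_twist ?_
  have := ProjTwist.hasUnit_of_cover (𝒜 := 𝒮) (d := 1) (fun x => by
    obtain ⟨i, hi⟩ := exists_mem_D hsym hι x
    exact ⟨_, hι i, hi⟩) 1
  simpa using this

variable {X : Scheme.{u}}

section charts

variable (r : X ⟶ Proj 𝒮)

/-- `r^*O(1)`. -/
noncomputable abbrev P1 : X.Modules := (Scheme.Modules.pullback r).obj (O1 𝒮)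

/-- The inverse image of the section of `m`. -/
noncomputable abbrev psec (m : M) : ProjUP.Γm (P1 r) := ProjUP.pullSec r (O1 𝒮) (sec hι m)

/-- The ring map of a chart. -/
noncomputable def chartMap {i : M} {W : X.Opens} (h : W ≤ r ⁻¹ᵁ D 𝒮 ι i) : Away 𝒮 (ι i) →+* Γ(X, W) :=
  (r.appLE (D 𝒮 ι i) W h).hom.comp (Proj.awayToSection 𝒮 (ι i)).hom

include hι in
theorem ι_comp_chart {i : M} {W : X.Opens} (h : W ≤ r ⁻¹ᵁ D 𝒮 ι i) :
    W.ι ≫ r = W.toSpecΓ ≫ Spec.map (CommRingCat.ofHom (chartMap r h)) ≫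
      Proj.awayι 𝒮 (ι i) (hι i) one_pos := by
  have e : CommRingCat.ofHom (chartMap r h) = Proj.awayToSection 𝒮 (ι i) ≫ r.appLE (D 𝒮 ι i) W h := rfl
  have hD : (D 𝒮 ι i).ι = ((D 𝒮 ι i).toSpecΓ ≫ Spec.map (Proj.awayToSection 𝒮 (ι i))) ≫
      Proj.awayι 𝒮 (ι i) (hι i) one_pos := by
    change _ = Proj.basicOpenToSpec 𝒮 (ι i) ≫ _
    rw [← Proj.basicOpenIsoSpec_hom 𝒮 _ (hι i) one_pos, ← Proj.basicOpenIsoSpec_inv_ι, Iso.hom_inv_id_assoc]
  rw [← Scheme.Hom.resLE_comp_ι r h, hD, e, Spec.map_comp]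
  simp only [Category.assoc]
  rw [Scheme.Opens.toSpecΓ_SpecMap_appLE_assoc]

theorem gres_psec {i : M} {W : X.Opens} (h : W ≤ r ⁻¹ᵁ D 𝒮 ι i) (k : M) :
    gres (P1 r) (psec hι r k) W = chartMap r h (co 𝒮 hι i k) • gres (P1 r) (psec hι r i) W := by
  have e := congrArg (res (P1 r) h) (gres_pullSec_smul r (O1 𝒮) (sec_rel hι i k))
  simp only [res_smul, gres, res_res] at e
  exact e

include hsym in
theorem gen_psec_iff (i : M) (x : X) : Gen (P1 r) (psec hι r i) x ↔ x ∈ r ⁻¹ᵁ D 𝒮 ι i := by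
  refine ⟨fun hi => ?_, fun hx => gen_pullSec r _ _ (isBasis_sec hι i) hx⟩
  obtain ⟨j, hj⟩ := exists_mem_D hsym hι (r x)
  have hjD : x ∈ r ⁻¹ᵁ D 𝒮 ι j := hj
  have hu := isUnit_of_rel (isInvertible_pullback r (isInvertible_O1 hι hsym)) hjD
    (gres_psec hι r (le_rfl : r ⁻¹ᵁ D 𝒮 ι j ≤ _) i) hi
  set W := r ⁻¹ᵁ D 𝒮 ι j with hWdef
  have hmem : W.toSpecΓ ⟨x, hjD⟩ ∈ PrimeSpectrum.basicOpen (chartMap r (le_rfl : W ≤ _) (co 𝒮 hι j i)) := by
    show (⟨x, hjD⟩ : W) ∈ W.toSpecΓ ⁻¹ᵁ PrimeSpectrum.basicOpen (chartMap r (le_rfl : W ≤ _) (co 𝒮 hι j i))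
    rw [Scheme.Opens.toSpecΓ_preimage_basicOpen]
    exact (X.mem_basicOpen _ x hjD).mpr hu
  have hr : r x = Proj.awayι 𝒮 (ι j) (hι j) one_pos
      (Spec.map (CommRingCat.ofHom (chartMap r (le_rfl : W ≤ _))) (W.toSpecΓ ⟨x, hjD⟩)) :=
    congrArg (fun f : (W : Scheme.{u}) ⟶ Proj 𝒮 => f (⟨x, hjD⟩ : W)) (ι_comp_chart hι r (le_rfl : W ≤ _))
  show r x ∈ D 𝒮 ι i
  rw [hr]
  show _ ∈ (Proj.awayι 𝒮 (ι j) (hι j) one_pos) ⁻¹ᵁ D 𝒮 ι i
  have hpre : (Proj.awayι 𝒮 (ι j) (hι j) one_pos) ⁻¹ᵁ D 𝒮 ι i = PrimeSpectrum.basicOpen (co 𝒮 hι j i) := by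
    rw [Proj.awayι_preimage_basicOpen 𝒮 (hι j) one_pos (hι i) one_pos]
    congr 1
    apply HomogeneousLocalization.val_injective _
    simp [Away.isLocalizationElem, co]
  rw [hpre]
  exact hmem

include hsym in
theorem isBasis_psec {i : M} {W : X.Opens} (h : W ≤ r ⁻¹ᵁ D 𝒮 ι i) :
    IsBasis (P1 r) (gres (P1 r) (psec hι r i) W) := by
  have hL := isInvertible_pullback r (isInvertible_O1 hι hsym)
  have hle : W ≤ genOpen hL (psec hι r i) := fun x hx => (gen_psec_iff hι hsym r i x).mpr (h hx)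
  have := (isBasis_genOpen hL (psec hι r i)).restrict hle
  rwa [show (P1 r).presheaf.map (homOfLE hle).op (gres (P1 r) (psec hι r i) (genOpen hL (psec hι r i))) =
    gres (P1 r) (psec hι r i) W from res_res _ le_top hle _] at this

include hι in
theorem chartMap_base {q : X ⟶ Spec (CommRingCat.of A)} (hq : r ≫ toSpecA 𝒮 = q) {i : M} {W : X.Opens}
    (h : W ≤ r ⁻¹ᵁ D 𝒮 ι i) : (chartMap r h).comp (base 𝒮 (ι i)) = sigma q W := by
  have e : W.toSpecΓ ≫ Spec.map (CommRingCat.ofHom ((chartMap r h).comp (base 𝒮 (ι i)))) =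
      W.toSpecΓ ≫ Spec.map (CommRingCat.ofHom (sigma q W)) := by
    rw [← ι_comp_eq_sigma, ← hq, CommRingCat.ofHom_comp, Spec.map_comp, ← awayι_toSpecA (hι i),
      ← Category.assoc W.ι, ι_comp_chart hι r h]
    simp only [Category.assoc]
  exact congrArg CommRingCat.Hom.hom (toSpecΓ_cancel e)

end charts

include hsym in
/-- Two morphisms with the same pulled back sections agree. -/
theorem hom_ext (r r' : X ⟶ Proj 𝒮) (hrr' : r ≫ toSpecA 𝒮 = r' ≫ toSpecA 𝒮) (τ : P1 r ≅ P1 r')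
    (hτ : ∀ m, τ.hom.app ⊤ (psec hι r m) = psec hι r' m) : r = r' := by
  have hpre : ∀ i, r ⁻¹ᵁ D 𝒮 ι i = r' ⁻¹ᵁ D 𝒮 ι i := fun i => by
    refine Opens.ext (Set.ext fun x => ?_)
    refine (gen_psec_iff hι hsym r i x).symm.trans
      (Iff.trans ⟨fun h => ?_, fun h => ?_⟩ (gen_psec_iff hι hsym r' i x))
    · exact hτ i ▸ gen_map τ.hom h
    · have e : τ.inv.app ⊤ (psec hι r' i) = psec hι r i := by
        rw [← hτ i]
        exact ConcreteCategory.congr_hom (congrArg (fun f => Scheme.Modules.Hom.app f ⊤) τ.hom_inv_id) (psec hι r i)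
      exact e ▸ gen_map τ.inv h
  refine hom_ext_of_opens (fun i => r ⁻¹ᵁ D 𝒮 ι i) (fun x => exists_mem_D hsym hι (r x)) fun i => ?_
  have h' : r ⁻¹ᵁ D 𝒮 ι i ≤ r' ⁻¹ᵁ D 𝒮 ι i := (hpre i).le
  rw [ι_comp_chart hι r (le_refl (r ⁻¹ᵁ D 𝒮 ι i)), ι_comp_chart hι r' h']
  suffices e : chartMap r (le_refl (r ⁻¹ᵁ D 𝒮 ι i)) = chartMap r' h' by rw [e]
  have hb : (chartMap r (le_refl (r ⁻¹ᵁ D 𝒮 ι i))).comp (base 𝒮 (ι i)) =
      (chartMap r' h').comp (base 𝒮 (ι i)) := by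
    rw [chartMap_base hι r hrr' le_rfl, chartMap_base hι r' rfl h']
  have hk : ∀ k, chartMap r (le_refl (r ⁻¹ᵁ D 𝒮 ι i)) (co 𝒮 hι i k) = chartMap r' h' (co 𝒮 hι i k) := by
    intro k
    refine (isBasis_psec hι hsym r' h' _ le_rfl).1 ?_
    have e := congrArg (τ.hom.app (r ⁻¹ᵁ D 𝒮 ι i)) (gres_psec hι r le_rfl k)
    rw [Scheme.Modules.Hom.app_smul, gres_app, gres_app, hτ, hτ, gres_psec hι r' h' k] at e
    simp only [QCohLib.map_self]
    exact e.symm
  let v : M →+ Γ(X, r ⁻¹ᵁ D 𝒮 ι i) :=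
    { toFun := fun m => chartMap r (le_refl (r ⁻¹ᵁ D 𝒮 ι i)) (co 𝒮 hι i m)
      map_zero' := by
        rw [show co 𝒮 hι i 0 = 0 from ?_, map_zero]
        apply HomogeneousLocalization.val_injective
        simp [co, Localization.mk_zero]
      map_add' := fun a b => by
        rw [← map_add]
        congr 1
        apply HomogeneousLocalization.val_injective
        rw [HomogeneousLocalization.val_add]
        simp only [co, Away.val_mk, map_add, Localization.add_mk_self] }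
  have hv : ∀ a m, v (a • m) = (chartMap r (le_refl (r ⁻¹ᵁ D 𝒮 ι i))).comp (base 𝒮 (ι i)) a * v m := by
    intro a m
    show chartMap r _ (co 𝒮 hι i (a • m)) = chartMap r _ (base 𝒮 (ι i) a) * chartMap r _ (co 𝒮 hι i m)
    rw [← map_mul]
    congr 1
    apply HomogeneousLocalization.val_injective
    rw [HomogeneousLocalization.val_mul]
    change _ = (HomogeneousLocalization.mk _ : Away 𝒮 (ι i)).val * _
    simp only [co, Away.val_mk, HomogeneousLocalization.val_mk, map_smul, Localization.mk_mul]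
    congr 1
    · exact Algebra.smul_def a (ι m)
    · exact Subtype.ext (one_mul _).symm
  obtain ⟨ψ, hψb, hψ⟩ := exists_hom hsym _ v hv
  have hu : IsUnit (ψ (ι i)) := by
    rw [hψ]
    show IsUnit (chartMap r _ (co 𝒮 hι i i))
    rw [co_self, map_one]
    exact isUnit_one
  rw [eq_evalHom hsym hι _ ψ hψb hψ hu,
    eq_evalHom hsym hι (chartMap r' h') ψ (hψb.trans hb) (fun k => (hψ k).trans (hk k)) hu]

include hsym in
/-- Generating sections give a morphism. -/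
theorem exists_morph (q : X ⟶ Spec (CommRingCat.of A)) {L : X.Modules} (hL : PicF.IsInvertible L)
    (s : M →+ ProjUP.Γm L) (hs' : ∀ (a : A) (m : M), s (a • m) = ProjUP.toGlobal q a • s m)
    (hs : ProjUP.GeneratedBy L s) :
    ∃ (r : X ⟶ Proj 𝒮) (_ : r ≫ toSpecA 𝒮 = q) (τ : P1 r ≅ L), ∀ m, τ.hom.app ⊤ (psec hι r m) = s m := by
  let W : M → X.Opens := fun i => genOpen hL (s i)
  have hW : ∀ x, ∃ i, x ∈ W i := fun x => exists_gen hL hs x
  have hb : ∀ i, IsBasis L (gres L (s i) (W i)) := fun i => isBasis_genOpen hL (s i)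
  have hbj : ∀ i (V : X.Opens), V ≤ W i → Function.Bijective fun c : Γ(X, V) => c • gres L (s i) V := by
    intro i V hV
    have := hb i V hV
    simp only [gres, res, QCohLib.map_map] at this
    exact this
  choose v hv using fun i k => (hbj i (W i) le_rfl).2 (gres L (s k) (W i))
  have hv' : ∀ i k, gres L (s k) (W i) = v i k • gres L (s i) (W i) := fun i k => (hv i k).symm
  have hvi : ∀ i, v i i = 1 := fun i => (hbj i (W i) le_rfl).1 ((hv i i).trans (one_smul _ _).symm)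
  have hres : ∀ i k (V : X.Opens) (h : V ≤ W i), gres L (s k) V = resR h (v i k) • gres L (s i) V := by
    intro i k V h
    have e := congrArg (res L h) (hv' i k)
    simp only [res_smul, gres, res_res] at e
    exact e
  let vh : ∀ i, M →+ Γ(X, W i) := fun i => AddMonoidHom.mk' (v i) fun a b => by
    refine (hbj i (W i) le_rfl).1 ?_
    dsimp only
    rw [add_smul, ← hv', ← hv', ← hv', map_add]
    exact map_add _ _ _
  have hvs : ∀ i a m, vh i (a • m) = sigma q (W i) a * vh i m := by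
    intro i a m
    refine (hbj i (W i) le_rfl).1 ?_
    show v i (a • m) • gres L (s i) (W i) = (sigma q (W i) a * v i m) • gres L (s i) (W i)
    rw [mul_smul, ← hv', ← hv', hs', gres, res_smul]
    rfl
  choose ψ hψb hψ using fun i => exists_hom hsym (sigma q (W i)) (vh i) (hvs i)
  have hψu : ∀ i, IsUnit (ψ i (ι i)) := fun i => by
    rw [hψ]
    show IsUnit (v i i)
    rw [hvi]
    exact isUnit_one
  let f : ∀ i, (W i : Scheme.{u}) ⟶ Proj 𝒮 := fun i => (W i).toSpecΓ ≫ pt 𝒮 (ψ i) (hι i) (hψu i)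
  have hres' : ∀ (i : M) (V : X.Opens) (h : V ≤ W i),
      X.homOfLE h ≫ f i = V.toSpecΓ ≫ pt 𝒮 ((X.presheaf.map (homOfLE h).op).hom.comp (ψ i)) (hι i)
        ((hψu i).map (X.presheaf.map (homOfLE h).op).hom) := by
    intro i V h
    simp only [f]
    rw [← Category.assoc, ← Scheme.Opens.toSpecΓ_SpecMap_presheaf_map, Category.assoc]
    exact congrArg (V.toSpecΓ ≫ ·) (SpecMap_pt (ψ i) (hι i) (hψu i) (X.presheaf.map (homOfLE h).op).hom)
  have agree : ∀ i j, X.homOfLE (inf_le_left : W i ⊓ W j ≤ W i) ≫ f i =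
      X.homOfLE (inf_le_right : W i ⊓ W j ≤ W j) ≫ f j := by
    intro i j
    rw [hres', hres']
    refine congrArg ((W i ⊓ W j).toSpecΓ ≫ ·) ?_
    have hcomp : ∀ k, resR (inf_le_right : W i ⊓ W j ≤ W j) (v j k) =
        resR (inf_le_right : W i ⊓ W j ≤ W j) (v j i) * resR (inf_le_left : W i ⊓ W j ≤ W i) (v i k) := by
      intro k
      refine (hbj j _ inf_le_right).1 ?_
      dsimp only
      rw [← hres j k _ inf_le_right, mul_comm, mul_smul, ← hres j i _ inf_le_right, ← hres i k _ inf_le_left]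
    refine (pt_eq (c := resR (inf_le_right : W i ⊓ W j ≤ W j) (v j i)) ?_ (scaled_of_gen hsym hι ?_ fun k => ?_)
      (hι i) (hι j) _ _).symm
    · refine isUnit_iff_exists_inv.mpr ⟨resR (inf_le_left : W i ⊓ W j ≤ W i) (v i j), (hcomp j).symm.trans ?_⟩
      rw [hvi]
      exact map_one _
    · rw [RingHom.comp_assoc, RingHom.comp_assoc, hψb, hψb, resR_sigma, resR_sigma]
    · show resR _ (ψ j (ι k)) = _ * resR _ (ψ i (ι k))
      rw [hψ, hψ]
      exact hcomp k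
  obtain ⟨r, hr⟩ := exists_glue W hW f agree
  have hq : r ≫ toSpecA 𝒮 = q := by
    refine hom_ext_of_opens W hW fun i => ?_
    rw [← Category.assoc, hr i, ι_comp_eq_sigma]
    simp only [f, Category.assoc, pt_toSpecA, hψb]
  have hWD : ∀ i, W i ≤ r ⁻¹ᵁ D 𝒮 ι i := fun i x hx => by
    have e : r x = f i (⟨x, hx⟩ : W i) :=
      congrArg (fun g : (W i : Scheme.{u}) ⟶ Proj 𝒮 => g (⟨x, hx⟩ : W i)) (hr i)
    show r x ∈ D 𝒮 ι i
    rw [e]
    exact (Proj.opensRange_awayι 𝒮 _ (hι i) one_pos).le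
      ⟨(Spec.map (CommRingCat.ofHom (evalHom 𝒮 (ψ i) (ι i) (hψu i)))) ((W i).toSpecΓ ⟨x, hx⟩), rfl⟩
  have hcoef : ∀ i k, chartMap r (hWD i) (co 𝒮 hι i k) = v i k := by
    intro i k
    have e := (ι_comp_chart hι r (hWD i)).symm.trans (hr i)
    simp only [f, pt] at e
    rw [← Category.assoc, ← Category.assoc, cancel_mono] at e
    have e2 := congrArg CommRingCat.Hom.hom (toSpecΓ_cancel e)
    simp only [CommRingCat.hom_ofHom] at e2
    have h1 : ψ i (ι i) = 1 := (hψ i i).trans (hvi i)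
    rw [e2]
    exact (evalHom_co hι (ψ i) i k h1).trans (hψ i k)
  obtain ⟨τ, hτ⟩ := exists_iso_of_bases (L := P1 r) (L' := L) (s := psec hι r) (s' := fun m => s m) (W := W) hW
    (fun i => isBasis_psec hι hsym r (hWD i)) hb v (fun i k => by rw [gres_psec hι r (hWD i) k, hcoef]) hv'
  exact ⟨r, hq, τ, hτ⟩

end Groth.Agent.ProjUniv.Sym
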