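import Groth.Agent.ProjUniv.Chart
import Groth.Agent.ProjUniv.PullBasis
import Mathlib.LinearAlgebra.SymmetricAlgebra.Basic

/-!
# Points of `Proj` of a graded symmetric algebra
-/

set_option autoImplicit false
set_option synthInstance.maxHeartbeats 400000
set_option maxHeartbeats 1600000
universe u
open CategoryTheory CategoryTheory.Limits AlgebraicGeometry Opposite TopologicalSpace DirectSum
  HomogeneousLocalization

namespace Groth.Agent.ProjUniv.Sym

variable {A S : Type u} [CommRing A] [CommRing S] [Algebra A S] (𝒮 : ℕ → Submodule A S) [GradedAlgebra 𝒮]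
variable {T T' : Type u} [CommRing T] [CommRing T']

/-- Evaluation of homogeneous fractions along a ring map. -/
noncomputable def evalHom (ψ : S →+* T) (g : S) (hg : IsUnit (ψ g)) : Away 𝒮 g →+* T :=
  (IsLocalization.Away.lift g hg).comp (algebraMap (Away 𝒮 g) (Localization.Away g))

variable {𝒮}

theorem evalHom_mk (ψ : S →+* T) {g : S} (hg : IsUnit (ψ g)) {d : ℕ} (hgd : g ∈ 𝒮 d) (k : ℕ) (a : S)
    (ha : a ∈ 𝒮 (k • d)) : evalHom 𝒮 ψ g hg (Away.mk 𝒮 hgd k a ha) * ψ g ^ k = ψ a := by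
  rw [evalHom, RingHom.comp_apply, HomogeneousLocalization.algebraMap_apply, Away.val_mk,
    Localization.mk_eq_mk']
  have key := congrArg (IsLocalization.Away.lift (S := Localization.Away g) g hg)
    (IsLocalization.mk'_spec (Localization.Away g) a (⟨g ^ k, by use k⟩ : Submonoid.powers g))
  simpa only [map_mul, IsLocalization.Away.lift_eq, map_pow] using key

theorem comp_evalHom (ψ : S →+* T) {g : S} (hg : IsUnit (ψ g)) (h : T →+* T') :
    h.comp (evalHom 𝒮 ψ g hg) = evalHom 𝒮 (h.comp ψ) g (hg.map h) := by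
  rw [evalHom, evalHom, ← RingHom.comp_assoc]
  congr 1
  refine IsLocalization.ringHom_ext (Submonoid.powers g) ?_
  ext a
  simp [IsLocalization.Away.lift_eq]

theorem evalHom_congr {ψ ψ' : S →+* T} {g : S} {hg : IsUnit (ψ g)} {hg' : IsUnit (ψ' g)} (h : ψ = ψ') :
    evalHom 𝒮 ψ g hg = evalHom 𝒮 ψ' g hg' := by
  subst h
  rfl

theorem evalHom_comp_awayMap (ψ : S →+* T) {g h x : S} {e : ℕ} (hh : h ∈ 𝒮 e) (hx : x = g * h)
    (hg : IsUnit (ψ g)) (hxu : IsUnit (ψ x)) :
    (evalHom 𝒮 ψ x hxu).comp (awayMap 𝒮 hh hx) = evalHom 𝒮 ψ g hg := by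
  have key : (IsLocalization.Away.lift (S := Localization.Away x) x hxu).comp
      (Localization.awayLift (algebraMap _ (Localization.Away x)) g
        (isUnit_of_dvd_unit (map_dvd _ ⟨_, hx⟩) (IsLocalization.Away.algebraMap_isUnit x))) =
      IsLocalization.Away.lift (S := Localization.Away g) g hg := by
    refine IsLocalization.ringHom_ext (Submonoid.powers g) ?_
    ext a
    simp [Localization.awayLift, IsLocalization.Away.lift_eq]
  ext z
  rw [evalHom, evalHom, ← key]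
  simp only [RingHom.comp_apply, HomogeneousLocalization.algebraMap_apply, val_awayMap]

/-- `ψ'` is `ψ` scaled by `c` in every degree. -/
def Scaled (𝒮 : ℕ → Submodule A S) (ψ ψ' : S →+* T) (c : T) : Prop :=
  ∀ (d : ℕ) (a : S), a ∈ 𝒮 d → ψ' a = c ^ d * ψ a

theorem evalHom_scaled {ψ ψ' : S →+* T} {c : T} (hc : IsUnit c) (hs : Scaled 𝒮 ψ ψ' c) {g : S} {d : ℕ}
    (hgd : g ∈ 𝒮 d) (hg : IsUnit (ψ g)) (hg' : IsUnit (ψ' g)) :
    evalHom 𝒮 ψ' g hg' = evalHom 𝒮 ψ g hg := by
  ext z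
  obtain ⟨k, a, ha, rfl⟩ := Away.mk_surjective _ hgd z
  have h1 := evalHom_mk ψ' hg' hgd k a ha
  rw [hs _ _ hgd, hs _ _ ha, ← evalHom_mk ψ hg hgd k a ha, mul_pow, ← pow_mul, mul_comm d k,
    smul_eq_mul] at h1
  refine ((hc.pow (k * d)).mul (hg.pow k)).mul_left_injective ?_
  dsimp only
  rw [h1]
  ring

variable (𝒮) in
/-- The point of `Proj` given by a ring map sending `g` to a unit. -/
noncomputable def pt (ψ : S →+* T) {g : S} (hgd : g ∈ 𝒮 1) (hg : IsUnit (ψ g)) :
    Spec (CommRingCat.of T) ⟶ Proj 𝒮 :=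
  Spec.map (CommRingCat.ofHom (evalHom 𝒮 ψ g hg)) ≫ Proj.awayι 𝒮 g hgd one_pos

theorem SpecMap_pt (ψ : S →+* T) {g : S} (hgd : g ∈ 𝒮 1) (hg : IsUnit (ψ g)) (h : T →+* T') :
    Spec.map (CommRingCat.ofHom h) ≫ pt 𝒮 ψ hgd hg = pt 𝒮 (h.comp ψ) hgd (hg.map h) := by
  rw [pt, pt, ← Spec.map_comp_assoc, ← CommRingCat.ofHom_comp, comp_evalHom]

theorem pt_congr {ψ ψ' : S →+* T} {g : S} {hgd : g ∈ 𝒮 1} {hg : IsUnit (ψ g)} {hg' : IsUnit (ψ' g)}
    (h : ψ = ψ') : pt 𝒮 ψ hgd hg = pt 𝒮 ψ' hgd hg' := by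
  subst h
  rfl

theorem pt_eq {ψ ψ' : S →+* T} {c : T} (hc : IsUnit c) (hs : Scaled 𝒮 ψ ψ' c) {g g' : S} (hgd : g ∈ 𝒮 1)
    (hgd' : g' ∈ 𝒮 1) (hg : IsUnit (ψ g)) (hg' : IsUnit (ψ' g')) :
    pt 𝒮 ψ' hgd' hg' = pt 𝒮 ψ hgd hg := by
  have hg'ψ : IsUnit (ψ g') := (IsUnit.mul_iff.mp (hs 1 g' hgd' ▸ hg')).2
  have hgψ' : IsUnit (ψ' g) := by
    rw [hs 1 g hgd, pow_one]
    exact hc.mul hg
  have hx : IsUnit (ψ (g * g')) := by rw [map_mul]; exact hg.mul hg'ψ
  have hx' : IsUnit (ψ' (g * g')) := by rw [map_mul]; exact hgψ'.mul hg'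
  rw [pt, pt, ← evalHom_comp_awayMap ψ' hgd (mul_comm _ _) hg' hx', ← evalHom_comp_awayMap ψ hgd' rfl hg hx,
    evalHom_scaled hc hs (SetLike.mul_mem_graded hgd hgd') hx hx', CommRingCat.ofHom_comp, CommRingCat.ofHom_comp,
    Spec.map_comp, Spec.map_comp, Category.assoc, Category.assoc, Proj.SpecMap_awayMap_awayι,
    Proj.SpecMap_awayMap_awayι]

variable (𝒮) in
/-- The structure map of a chart. -/
noncomputable def base (g : S) : A →+* Away 𝒮 g :=
  (fromZeroRingHom 𝒮 _).comp (algebraMap A (𝒮 0))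

theorem evalHom_base (ψ : S →+* T) {g : S} (hg : IsUnit (ψ g)) :
    (evalHom 𝒮 ψ g hg).comp (base 𝒮 g) = ψ.comp (algebraMap A S) := by
  ext r
  have hb : (base 𝒮 g r).val = algebraMap S (Localization.Away g) (algebraMap A S r) := by
    change (HomogeneousLocalization.mk _ : Away 𝒮 g).val = _
    rw [HomogeneousLocalization.val_mk]
    exact Localization.mk_one_eq_algebraMap _
  rw [RingHom.comp_apply, evalHom, RingHom.comp_apply, HomogeneousLocalization.algebraMap_apply, hb,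
    IsLocalization.Away.lift_eq, RingHom.comp_apply]

variable (𝒮) in
/-- The structure morphism to `Spec A`. -/
noncomputable abbrev toSpecA : Proj 𝒮 ⟶ Spec (CommRingCat.of A) :=
  Proj.toSpecZero 𝒮 ≫ Spec.map (CommRingCat.ofHom (algebraMap A (𝒮 0)))

theorem awayι_toSpecA {g : S} (hgd : g ∈ 𝒮 1) :
    Proj.awayι 𝒮 g hgd one_pos ≫ toSpecA 𝒮 = Spec.map (CommRingCat.ofHom (base 𝒮 g)) := by
  rw [toSpecA, Proj.awayι_toSpecZero_assoc, ← Spec.map_comp, ← CommRingCat.ofHom_comp]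
  rfl

theorem pt_toSpecA (ψ : S →+* T) {g : S} (hgd : g ∈ 𝒮 1) (hg : IsUnit (ψ g)) :
    pt 𝒮 ψ hgd hg ≫ toSpecA 𝒮 = Spec.map (CommRingCat.ofHom (ψ.comp (algebraMap A S))) := by
  rw [pt, Category.assoc, awayι_toSpecA, ← Spec.map_comp, ← CommRingCat.ofHom_comp, evalHom_base]

/-! ### Symmetric algebras -/

variable {M : Type u} [AddCommGroup M] [Module A M] {ι : M →ₗ[A] S}

variable (hsym : IsSymmetricAlgebra ι) (hι : ∀ m : M, ι m ∈ 𝒮 1)

include hsym hι in
/-- Induction on homogeneous elements. -/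
theorem degree_induction (P : ℕ → S → Prop) (hbase : ∀ a, P 0 (algebraMap A S a)) (hgen : ∀ m, P 1 (ι m))
    (hzero : ∀ d, P d 0) (hadd : ∀ d x y, x ∈ 𝒮 d → y ∈ 𝒮 d → P d x → P d y → P d (x + y))
    (hmul : ∀ i j x y, x ∈ 𝒮 i → y ∈ 𝒮 j → P i x → P j y → P (i + j) (x * y)) :
    ∀ (d : ℕ) (x : S), x ∈ 𝒮 d → P d x := by
  classical
  have hsum : ∀ (d : ℕ) (s : Finset (ℕ × ℕ)) (f : ℕ × ℕ → S), (∀ i ∈ s, f i ∈ 𝒮 d ∧ P d (f i)) →
      (∑ i ∈ s, f i) ∈ 𝒮 d ∧ P d (∑ i ∈ s, f i) := fun d s f hf =>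
    Finset.sum_induction f (fun x => x ∈ 𝒮 d ∧ P d x)
      (fun x y hx hy => ⟨add_mem hx.1 hy.1, hadd d x y hx.1 hy.1 hx.2 hy.2⟩) ⟨zero_mem _, hzero d⟩ hf
  suffices key : ∀ z : S, ∀ d, P d (decompose 𝒮 z d : S) by
    intro d x hx
    have := key x d
    rwa [decompose_of_mem_same 𝒮 hx] at this
  intro z
  induction z using hsym.induction with
  | algebraMap r =>
    intro d
    have h0 : algebraMap A S r ∈ 𝒮 0 := SetLike.algebraMap_mem_graded 𝒮 r
    by_cases hd : d = 0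
    · subst hd
      rw [decompose_of_mem_same 𝒮 h0]
      exact hbase r
    · rw [decompose_of_mem_ne 𝒮 h0 (Ne.symm hd)]
      exact hzero d
  | ι m =>
    intro d
    by_cases hd : d = 1
    · subst hd
      rw [decompose_of_mem_same 𝒮 (hι m)]
      exact hgen m
    · rw [decompose_of_mem_ne 𝒮 (hι m) (Ne.symm hd)]
      exact hzero d
  | add a b ha hb =>
    intro d
    rw [decompose_add, DirectSum.add_apply, Submodule.coe_add]
    exact hadd d _ _ (decompose 𝒮 a d).2 (decompose 𝒮 b d).2 (ha d) (hb d)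
  | mul a b ha hb =>
    intro d
    rw [decompose_mul, DirectSum.coe_mul_apply]
    refine (hsum d _ _ fun ij hij => ?_).2
    rw [← (Finset.mem_filter.mp hij).2]
    exact ⟨SetLike.mul_mem_graded (decompose 𝒮 a ij.1).2 (decompose 𝒮 b ij.2).2,
      hmul _ _ _ _ (decompose 𝒮 a ij.1).2 (decompose 𝒮 b ij.2).2 (ha _) (hb _)⟩

include hsym hι in
/-- Ring maps whose values on generators differ by `c` are scaled. -/
theorem scaled_of_gen {ψ ψ' : S →+* T} {c : T} (hb : ψ'.comp (algebraMap A S) = ψ.comp (algebraMap A S))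
    (h : ∀ m, ψ' (ι m) = c * ψ (ι m)) : Scaled 𝒮 ψ ψ' c :=
  degree_induction hsym hι (fun d a => ψ' a = c ^ d * ψ a)
    (fun a => by simpa using RingHom.congr_fun hb a) (fun m => by simpa using h m)
    (fun d => by simp) (fun d x y _ _ hx hy => by simp only [map_add, hx, hy, mul_add])
    (fun i j x y _ _ hx hy => by simp only [map_mul, hx, hy, pow_add]; ring)

include hsym in
/-- A ring map out of the symmetric algebra. -/
theorem exists_hom (φ : A →+* T) (v : M →+ T) (hv : ∀ a m, v (a • m) = φ a * v m) :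
    ∃ ψ : S →+* T, ψ.comp (algebraMap A S) = φ ∧ ∀ m, ψ (ι m) = v m := by
  let _ : Algebra A T := φ.toAlgebra
  let l : M →ₗ[A] T := { toFun := v, map_add' := map_add v, map_smul' := hv }
  exact ⟨(hsym.lift l).toRingHom, RingHom.ext fun a => (hsym.lift l).commutes a, hsym.lift_eq l⟩

variable (𝒮) in
/-- The coordinate `ι m / ι m₀`. -/
noncomputable def co (m₀ m : M) : Away 𝒮 (ι m₀) :=
  Away.mk 𝒮 (hι m₀) 1 (ι m) (by simpa using hι m)

theorem co_self (m₀ : M) : co 𝒮 hι m₀ m₀ = 1 := by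
  apply HomogeneousLocalization.val_injective
  rw [co, Away.val_mk, HomogeneousLocalization.val_one, Localization.mk_eq_mk']
  exact (IsLocalization.mk'_eq_iff_eq_mul).mpr (by simp)

theorem evalHom_co (ψ : S →+* T) (m₀ m : M) (h1 : ψ (ι m₀) = 1) :
    evalHom 𝒮 ψ (ι m₀) (h1 ▸ isUnit_one) (co 𝒮 hι m₀ m) = ψ (ι m) := by
  have := evalHom_mk (𝒮 := 𝒮) ψ (h1 ▸ isUnit_one) (hι m₀) 1 (ι m) (by simpa using hι m)
  simpa [co, h1] using this

include hsym in
/-- A ring map out of a chart is evaluation along the induced map. -/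
theorem eq_evalHom {m₀ : M} (a : Away 𝒮 (ι m₀) →+* T) (ψ : S →+* T)
    (hb : ψ.comp (algebraMap A S) = a.comp (base 𝒮 (ι m₀))) (h : ∀ m, ψ (ι m) = a (co 𝒮 hι m₀ m))
    (hu : IsUnit (ψ (ι m₀))) : a = evalHom 𝒮 ψ (ι m₀) hu := by
  have h1 : ψ (ι m₀) = 1 := by rw [h, co_self, map_one]
  let num : ∀ (d : ℕ) (x : S), x ∈ 𝒮 d → Away 𝒮 (ι m₀) := fun d x hx =>
    Away.mk 𝒮 (hι m₀) d x (by simpa using hx)
  have key : ∀ (d : ℕ) (x : S), x ∈ 𝒮 d → ∀ hx : x ∈ 𝒮 d, a (num d x hx) = ψ x := by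
    refine degree_induction hsym hι (fun d x => ∀ hx : x ∈ 𝒮 d, a (num d x hx) = ψ x) ?_ ?_ ?_ ?_ ?_
    · intro r hx
      have e : num 0 _ hx = base 𝒮 (ι m₀) r := by
        apply HomogeneousLocalization.val_injective
        change _ = (HomogeneousLocalization.mk _ : Away 𝒮 (ι m₀)).val
        simp only [num, Away.val_mk, HomogeneousLocalization.val_mk]
        congr 1
        exact Subtype.ext (pow_zero _)
      rw [e]
      exact (RingHom.congr_fun hb r).symm
    · intro m hx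
      exact (h m).symm
    · intro d hx
      have e : num d 0 hx = 0 := by
        apply HomogeneousLocalization.val_injective
        simp [num, Away.val_mk, Localization.mk_zero]
      rw [e, map_zero, map_zero]
    · intro d x y hx hy px py hxy
      have e : num d (x + y) hxy = num d x hx + num d y hy := by
        apply HomogeneousLocalization.val_injective
        rw [HomogeneousLocalization.val_add]
        simp only [num, Away.val_mk, Localization.add_mk_self]
      rw [e, map_add, px hx, py hy, map_add]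
    · intro i j x y hx hy px py hxy
      have e : num (i + j) (x * y) hxy = num i x hx * num j y hy := by
        apply HomogeneousLocalization.val_injective
        rw [HomogeneousLocalization.val_mul]
        simp only [num, Away.val_mk, Localization.mk_mul]
        congr 1
        exact Subtype.ext (pow_add _ _ _)
      rw [e, map_mul, px hx, py hy, map_mul]
  ext z
  obtain ⟨k, x, hx, rfl⟩ := Away.mk_surjective _ (hι m₀) z
  have e := evalHom_mk ψ hu (hι m₀) k x hx
  rw [h1, one_pow, mul_one] at e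
  rw [e]
  have hx' : x ∈ 𝒮 k := by simpa using hx
  exact key k x hx' hx'

include hsym hι in
/-- Some generator is nonzero at each point. -/
theorem exists_mem_D (y : Proj 𝒮) : ∃ m, y ∈ Proj.basicOpen 𝒮 (ι m) := by
  by_contra hc
  push Not at hc
  let z : ProjectiveSpectrum 𝒮 := y
  have hP : ∀ (d : ℕ) (x : S), x ∈ 𝒮 d → 0 < d → x ∈ z.asHomogeneousIdeal.toIdeal := by
    refine degree_induction hsym hι (fun d x => 0 < d → x ∈ z.asHomogeneousIdeal.toIdeal) ?_ ?_ ?_ ?_ ?_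
    · intro a h; exact absurd h (lt_irrefl 0)
    · intro m _
      by_contra h
      exact hc m h
    · intro d _; exact zero_mem _
    · intro d x y _ _ hx hy h; exact add_mem (hx h) (hy h)
    · intro i j x y _ _ hx hy h
      rcases Nat.eq_zero_or_pos i with hi | hi
      · exact Ideal.mul_mem_left _ _ (hy (by omega))
      · exact Ideal.mul_mem_right _ _ (hx hi)
  refine z.not_irrelevant_le fun x hx => ?_
  show x ∈ z.asHomogeneousIdeal.toIdeal
  rw [z.asHomogeneousIdeal.isHomogeneous.mem_iff]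
  intro d
  rcases Nat.eq_zero_or_pos d with rfl | hd
  · have h0 : ((decompose 𝒮 x 0 : 𝒮 0) : S) = 0 := by
      simpa [GradedRing.proj_apply] using (HomogeneousIdeal.mem_irrelevant_iff 𝒮 x).mp hx
    rw [h0]
    exact zero_mem _
  · exact hP d _ (decompose 𝒮 x d).2 hd

end Groth.Agent.ProjUniv.Sym
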